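import Cfsg.Agent.AB.Blk2
import Cfsg.Agent.GW.Inv
import Cfsg.Agent.Gold.Loc
import Cfsg.Agent.Gen2.Basic

/-! Herzog: `χ(1) - χ(u)` constant on the nonprincipal characters of the principal 2-block (`HZ`).
One class of 2-elements (`HZ.conj`), `k N = |P|` (`HZ.exists_N`), normal subgroups above `C(P)` (`HZ.eq_top`). -/

set_option autoImplicit false
set_option linter.unusedSectionVars false
set_option linter.unusedVariables false

namespace Cfsg.Agent.Hz

open Subgroup Cfsg.Agent.BG Cfsg.Agent.Invol Cfsg.Agent.Block Cfsg.Agent.Char Cfsg.Agent.AB Cfsg.Agent.BMod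
open scoped _root_.Classical ComplexConjugate

variable {G : Type*} [Group G] [Finite G] {M : Ideal AlgInt} [PMod 2 M] {u g h x y : G} {k c : ℂ} {χ : IrrCharacter G}

variable (M G) in
/-- The principal block as a finset. -/
noncomputable def B0 : Finset (IrrCharacter G) := Finset.univ.filter (· ∈ principalBlock M G)

theorem mem_B0 : χ ∈ B0 G M ↔ χ ∈ principalBlock M G := by simp [B0]

theorem one_B0 : irrOne G ∈ B0 G M := mem_B0.2 irrOne_mem_principalBlock

variable (M) in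
/-- The hypothesis. -/
def HZ (u : G) (k : ℂ) : Prop := ∀ χ ∈ principalBlock M G, χ ≠ irrOne G → χ.1 1 - χ.1 u = k

theorem col_B0 (g h : G) : col (principalBlock M G) g h = ∑ χ ∈ B0 G M, χ.1 h * χ.1 g⁻¹ := by
  rw [col_apply, B0, Finset.sum_filter]

theorem sum_zero (hx : IsPPart 2 g x) (hy : IsPPart 2 h y) (hxy : ¬ IsConj x y) :
    ∑ χ ∈ B0 G M, χ.1 h * χ.1 g⁻¹ = 0 := by
  rw [← col_B0]; exact col_eq_zero isPBlock_principalBlock.isBlockUnion hx hy hxy

theorem sum_deg_zero (hg : 2 ∣ orderOf g) : ∑ χ ∈ B0 G M, χ.1 g * χ.1 1 = 0 := by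
  obtain ⟨x, hx⟩ := exists_isPPart 2 g
  have := sum_zero (M := M) (isPPart_one_iff.2 (by simp : ¬ 2 ∣ orderOf (1 : G))) hx fun e =>
    (hx.eq_one_iff.1 (isConj_one_right.1 e)) hg
  simpa using this

theorem HZ.sum (H : HZ M u k) (f : IrrCharacter G → ℂ) :
    ∑ χ ∈ B0 G M, f χ * (χ.1 1 - χ.1 u) = k * (∑ χ ∈ B0 G M, f χ - f (irrOne G)) := by
  rw [← Finset.add_sum_erase _ _ one_B0, ← Finset.add_sum_erase _ f one_B0, add_sub_cancel_left, Finset.mul_sum]
  simp only [irrOne_apply, sub_self, mul_zero, zero_add]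
  exact Finset.sum_congr rfl fun χ r => by
    rw [H χ (mem_B0.1 (Finset.mem_of_mem_erase r)) (Finset.ne_of_mem_erase r), mul_comm]

theorem HZ.conj (H : HZ M u k) (k0 : k ≠ 0) (hs : IsPPart 2 u y) (hx : ∃ j, orderOf x = 2 ^ j) (x1 : x ≠ 1) :
    IsConj x y := by
  by_contra hn
  have e1 := sum_zero (M := M) (isPPart_self hx) (isPPart_one_iff.2 (by simp : ¬ 2 ∣ orderOf (1 : G)))
    (fun e => x1 (isConj_one_left.1 e))
  have e2 := sum_zero (M := M) (isPPart_self hx) hs hn
  have e3 := H.sum fun χ => χ.1 x⁻¹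
  simp only [fun (χ : IrrCharacter G) z => mul_comm (χ.1 x⁻¹) z, sub_mul, Finset.sum_sub_distrib] at e3
  rw [e1, e2, sub_zero, eq_comm, mul_eq_zero, or_iff_right k0, sub_eq_zero, irrOne_apply] at e3
  have o : ∀ (χ : IrrCharacter G) g, χ.1 g ∈ O M := fun χ g => mem_O_of_isIntegral (χ.2.isCharacter.isIntegral g)
  have r : ∀ χ : IrrCharacter G, red M (χ.1 x⁻¹) = red M (χ.1 1) := fun χ =>
    red_apply_pElt (p := 2) χ.2.isCharacter (by simpa using hx)
  have f1 := congrArg (red M) e1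
  have f3 := congrArg (red M) e3
  rw [red_sum _ fun χ _ => (O M).mul_mem (o _ _) (o _ _), red_zero] at f1
  rw [red_sum _ fun χ _ => o _ _, red_one] at f3
  simp only [red_mul (o _ _) (o _ _), r, ← pow_two] at f1 f3
  rw [← sum_pow_char 2, f3] at f1
  simp at f1

theorem HZ.exists_N (H : HZ M u k) (hu : 2 ∣ orderOf u) :
    ∃ N : ℤ, k * N = (2 ^ (Nat.card G).factorization 2 : ℕ) := by
  have := Fintype.ofFinite G
  have e := rho_eq_sum (p := 2) (M := M) isPBlock_principalBlock.isBlockUnion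
    (blockPart_irr_of_mem (χ := irrOne G) irrOne_mem_principalBlock)
  have e1 := congrFun e 1
  have e2 := congrFun e u
  rw [rho_apply_of_dvd _ hu] at e2
  rw [rho_apply_one, irrOne_apply] at e1
  choose n hn using fun ψ : IrrCharacter G => exists_int_ctr (p := 2)
    (irrOne G).2.isCharacter.isGeneralizedCharacter ψ.2.isCharacter.isGeneralizedCharacter
  have e3 := H.sum fun ψ => n ψ
  refine ⟨∑ ψ ∈ B0 G M, n ψ - n (irrOne G), ?_⟩
  push_cast
  rw [← e3]
  simp only [Finset.sum_apply, Pi.smul_apply, smul_eq_mul, ite_mul, zero_mul, ← Finset.sum_filter] at e1 e2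
  simp only [← hn, mul_assoc, ← Finset.mul_sum, mul_sub, Finset.sum_sub_distrib]
  rw [B0, ← e1, ← e2]
  simp

/-- The characters of `G / W`, `P C(P) ≤ W`, lie in the principal block. -/
theorem infl_mem (P : Sylow 2 G) (W : Subgroup G) [W.Normal] (h1 : (P : Subgroup G) ≤ W) (h2 : C[(P : Subgroup G)] ≤ W)
    (ψ : IrrCharacter (G ⧸ W)) : infl (QuotientGroup.mk' W) (QuotientGroup.mk'_surjective W) ψ ∈ principalBlock M G := by
  refine mem_principal_of_red (p := 2) fun g => ?_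
  have d : ¬ 2 ∣ charDegree ψ.1 := fun e => P.not_dvd_index ((e.trans ψ.2.charDegree_dvd_card).trans (index_dvd_of_le h1))
  rw [centralChar, infl_apply, infl_apply, map_one]
  by_cases r : 2 ∣ C1[g].index
  · have o : ψ.1 (QuotientGroup.mk' W g) / ψ.1 1 ∈ O M := div_mem_O (mem_O_of_isIntegral (ψ.2.isCharacter.isIntegral _))
      (by rw [ψ.2.apply_one_eq_charDegree]; exact red_natCast_ne_zero d)
    rw [mul_div_assoc, red_mul (natCast_mem _ _) o, red_natCast, (CharP.cast_eq_zero_iff (F M) 2 _).2 r, zero_mul]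
  · obtain ⟨a, ha⟩ := Gen2.exists_conj_sylow_le_of_not_dvd_index P _ r
    have : a⁻¹ * g * a⁻¹⁻¹ ∈ W := h2 (mem_cent.2 fun z hz => by
      have := mem_cent1.1 (ha (smul_mem_pointwise_smul z _ _ hz))
      simp only [MulAut.smul_def, MulAut.conj_apply] at this
      rw [inv_inv]
      calc z * (a⁻¹ * g * a) = a⁻¹ * (a * z * a⁻¹ * g) * a := by group
        _ = _ := by rw [this]; group)
    have : g ∈ W := by simpa [mul_assoc] using ‹W.Normal›.conj_mem _ this a
    rw [QuotientGroup.mk'_apply, (QuotientGroup.eq_one_iff g).2 this, mul_div_assoc, div_self ψ.2.apply_one_ne_zero, mul_one,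
      red_natCast]

theorem HZ.eq_top (H : HZ M u k) (hu : 2 ∣ orderOf u) (P : Sylow 2 G) (W : Subgroup G) [W.Normal]
    (h1 : (P : Subgroup G) ≤ W) (h2 : C[(P : Subgroup G)] ≤ W) : W = ⊤ := by
  by_contra hW
  obtain ⟨N, hN⟩ := H.exists_N hu
  have k0 : k ≠ 0 := by rintro rfl; exact absurd hN.symm (by simp)
  have e : ∀ ψ : IrrCharacter (G ⧸ W), ψ ≠ irrOne _ → ψ.1 1 - ψ.1 u = k := fun ψ r => by
    simpa using H _ (infl_mem P W h1 h2 ψ) fun s => r (infl_injective _ _ (s.trans (infl_irrOne _ _).symm))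
  set S := ∑ ψ ∈ Finset.univ.erase (irrOne (G ⧸ W)), charDegree ψ.1 with hS
  have s1 := sum_charDegree_sq (G := G ⧸ W)
  rw [← Finset.add_sum_erase _ _ (Finset.mem_univ (irrOne _))] at s1
  have d1 : charDegree (irrOne (G ⧸ W)).1 = 1 := by simp [charDegree]
  rw [d1] at s1
  have s2 : S ≤ ∑ ψ ∈ Finset.univ.erase (irrOne (G ⧸ W)), charDegree ψ.1 ^ 2 :=
    Finset.sum_le_sum fun ψ _ => Nat.le_self_pow two_ne_zero _
  have s3 : S ≠ 0 := fun r => by
    rw [hS, Finset.sum_eq_zero_iff] at r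
    rw [Finset.sum_eq_zero fun ψ t => by rw [r ψ t]; rfl] at s1
    exact hW (index_eq_one.1 s1.symm)
  have s4 : ∑ ψ : IrrCharacter (G ⧸ W), ψ.1 1 * (ψ.1 1 - ψ.1 u) = k * S := by
    rw [← Finset.add_sum_erase _ _ (Finset.mem_univ (irrOne _)), hS, Nat.cast_sum, Finset.mul_sum]
    simp only [irrOne_apply, sub_self, mul_zero, zero_add]
    exact Finset.sum_congr rfl fun ψ r => by
      rw [e ψ (Finset.ne_of_mem_erase r), mul_comm, ψ.2.apply_one_eq_charDegree]
  simp only [mul_sub, Finset.sum_sub_distrib, ← pow_two, sum_irr_degree_sq, sum_irr_degree_mul_eq_ite] at s4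
  split_ifs at s4 with r
  · rw [sub_self, eq_comm, mul_eq_zero, or_iff_right k0] at s4
    exact s3 (by exact_mod_cast s4)
  · have s5 : (Nat.card (G ⧸ W) : ℤ) * N = (2 ^ (Nat.card G).factorization 2 : ℕ) * S := by
      have : (Nat.card (G ⧸ W) : ℂ) * N = (2 ^ (Nat.card G).factorization 2 : ℕ) * S := by
        rw [← hN, ← sub_zero (Nat.card (G ⧸ W) : ℂ), s4]; ring
      exact_mod_cast this
    have s6 : Nat.card (G ⧸ W) ∣ 2 ^ (Nat.card G).factorization 2 * S := by exact_mod_cast (Dvd.intro _ s5 : (_ : ℤ) ∣ _)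
    have co : (Nat.card (G ⧸ W)).Coprime 2 := ((Nat.Prime.coprime_iff_not_dvd Nat.prime_two).2 fun e =>
      P.not_dvd_index (e.trans (index_dvd_of_le h1))).symm
    have := Nat.le_of_dvd (Nat.pos_of_ne_zero s3) ((co.pow_right _).dvd_of_dvd_mul_left s6)
    omega

/-- Odd-order elements of `C(P)` lie in the kernel of an `N(P)`-constituent. -/
theorem exists_const (hχ : χ ∈ principalBlock M G) (P : Sylow 2 G) : ∃ θ ψ : N[(P : Subgroup G)] → ℂ,
    IsIrrCharacter _ θ ∧ IsCharacter _ ψ ∧ (fun n : N[(P : Subgroup G)] => χ.1 n) = θ + ψ ∧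
      ∀ n : N[(P : Subgroup G)], (n : G) ∈ C[(P : Subgroup G)] → ¬ 2 ∣ orderOf (n : G) → θ n = θ 1 := by
  set D := Op' 2 C[(P : Subgroup G)] with hD
  have D1 : D ≤ C[(P : Subgroup G)] := by rw [hD, Op'_eq]; exact map_subtype_le _
  have D2 : D ≤ N[(P : Subgroup G)] := D1.trans (cent_sub _)
  have D3 : N[(P : Subgroup G)] ≤ N[D] := norms_pcore _ (norms_cent le_rfl)
  have : (D.subgroupOf N[(P : Subgroup G)]).Normal := (normal_subgroupOf_iff_le_normalizer D2).2 D3
  have := Fintype.ofFinite N[(P : Subgroup G)]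
  set K := D.subgroupOf N[(P : Subgroup G)] with hK
  have := Fintype.ofFinite K
  have cK : ¬ 2 ∣ Nat.card K := by
    rw [Nat.card_congr (subgroupOfEquivOfLe D2).toEquiv]
    exact (GW.odd_Op' _).not_two_dvd_nat
  have hr := χ.2.isCharacter.restrict N[(P : Subgroup G)]
  have n0 : classInner (fun n : K => χ.1 n) (fun _ => 1) ≠ 0 := fun e => by
    rw [classInner_one_right, mul_eq_zero, or_iff_right (inv_ne_zero natCard_cast_ne_zero)] at e
    have r : ∀ n : K, red M (χ.1 n / χ.1 1) = 1 := fun n =>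
      red_div_of_principal (p := 2) hχ (not_dvd_index_centralizer P (D1 n.2))
    have : red M (∑ n : K, χ.1 n / χ.1 1) = 0 := by rw [← Finset.sum_div, e, zero_div, red_zero]
    rw [red_sum _ fun n _ => mem_O_of_red_ne_zero (by rw [r]; exact one_ne_zero)] at this
    simp only [r, Finset.sum_const, Finset.card_univ, nsmul_eq_mul, mul_one, ← Nat.card_eq_fintype_card] at this
    exact cK ((CharP.cast_eq_zero_iff (F M) 2 _).1 this)
  obtain ⟨m, hm, e⟩ := hr.exists_nat_coeff
  obtain ⟨θ, hθ⟩ : ∃ θ : IrrCharacter N[(P : Subgroup G)], m θ ≠ 0 ∧ classInner (fun n : K => θ.1 n) (fun _ => 1) ≠ 0 := by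
    by_contra! hn
    refine n0 ?_
    have : (fun n : K => χ.1 n) = ∑ θ : IrrCharacter N[(P : Subgroup G)], (m θ : ℂ) • fun n : K => θ.1 n := by
      funext n; simpa using congrFun e n
    rw [this, classInner_sum_left]
    exact Finset.sum_eq_zero fun θ _ => by
      rw [classInner_smul_left]
      by_cases r : m θ = 0
      · simp [r]
      · rw [hn θ r, mul_zero]
  obtain ⟨ψ, h1, h2⟩ := hr.exists_add_of_classInner_ne_zero θ.2 (by rw [hm]; exact_mod_cast hθ.1)
  refine ⟨θ.1, ψ, θ.2, h1, h2, fun n h3 h4 => θ.2.apply_eq_of_classInner_restrict_one_ne_zero K hθ.2 n ?_⟩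
  rw [hK, mem_subgroupOf, hD, Op'_eq]
  exact ⟨⟨n, h3⟩, mem_pPrimeCore_of_complement (complement_centralizer_sylow P) (by simpa using h4), rfl⟩

end Cfsg.Agent.Hz
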