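import Cfsg.Agent.Hz.A
import Cfsg.Agent.AB.EE
import Cfsg.Agent.AB.JTW
import Cfsg.Agent.S2299
import Cfsg.Agent.S4503
import Cfsg.Agent.Classical.LowIso

/-! Herzog: under `HZ` with `O(G) = 1`, `u ≠ 1`, the group is `C₂` or `PSL₂(2ⁿ)` (`HZ.main`). -/

set_option autoImplicit false
set_option linter.unusedSectionVars false
set_option linter.unusedVariables false

namespace Cfsg.Agent.Hz

open Subgroup Cfsg.Agent.BG Cfsg.Agent.Invol Cfsg.Agent.Block Cfsg.Agent.Char Cfsg.Agent.AB Cfsg.Agent.BMod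
  Cfsg.Agent.Classical
open scoped _root_.Classical ComplexConjugate MatrixGroups

variable {G : Type*} [Group G] [Finite G] {M : Ideal AlgInt} [PMod 2 M] {u g t x y : G} {k c : ℂ} {χ : IrrCharacter G}

theorem res_const {θ : G → ℂ} (hθ : IsCharacter G θ) (P : Subgroup G) (ab : IsMulCommutative P) (h1 : P ≠ ⊥)
    (hc : ∀ x ∈ P, x ≠ 1 → θ x = c) : ∃ m a : ℕ, θ 1 - c = #P * m ∧ c + m = a := by
  have := Fintype.ofFinite P
  have cm : ∀ a b : P, a * b = b * a := fun a b => Subtype.ext (IsMulCommutative.comm ab a.2 b.2)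
  have : Nontrivial (IrrCharacter P) := Finite.one_lt_card_iff_nontrivial.1 (by
    rw [card_irr_of_comm cm]; exact (one_lt_card_iff_ne_bot P).2 h1)
  obtain ⟨l, hl⟩ := exists_ne (irrOne P)
  have e : ∀ l : IrrCharacter P, #P * classInner (fun x : P => θ x) l = θ 1 - c + c * (#P * classInner (irrOne P).1 l) :=
    fun l => by
      rw [card_mul_classInner, card_mul_classInner, Finset.mul_sum, ← Finset.add_sum_erase _ _ (Finset.mem_univ 1),
        ← Finset.add_sum_erase _ _ (Finset.mem_univ 1), comm_iff_forall_irr_apply_one.1 cm l,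
        Finset.sum_congr rfl fun x r => by rw [hc x x.2 fun s => Finset.ne_of_mem_erase r (Subtype.ext s)]]
      simp only [OneMemClass.coe_one, map_one, mul_one, irrOne_apply, one_mul]
      ring
  obtain ⟨m, hm⟩ := (hθ.restrict P).exists_nat_classInner l.2.isCharacter
  obtain ⟨a, ha⟩ := (hθ.restrict P).exists_nat_classInner (irrOne P).2.isCharacter
  have e1 := e l
  have e2 := e (irrOne P)
  rw [hm, classInner_irr, if_neg hl.symm, mul_zero, mul_zero, add_zero] at e1
  rw [ha, classInner_irr, if_pos rfl, ← e1] at e2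
  refine ⟨m, a, e1.symm, mul_left_cancel₀ (natCard_cast_ne_zero (G := P)) ?_⟩
  rw [e2]; ring

theorem regPart_mem {H : Subgroup G} (hg : g ∈ H) : regPart 2 g ∈ H := by
  rw [(isPPart_pPart 2 g).regPart_eq]
  exact mul_mem (inv_mem ((isPPart_pPart 2 g).mem hg)) hg

/-- All non-identity 2-elements are conjugate to the involution `t ∈ P`. -/
structure OC (P : Sylow 2 G) (t : G) : Prop where
  ht : orderOf t = 2
  tP : t ∈ (P : Subgroup G)
  cls : ∀ x : G, (∃ j, orderOf x = 2 ^ j) → x ≠ 1 → IsConj x t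

variable {P : Sylow 2 G}

namespace OC
variable (h : OC P t)
include h

theorem ab : IsMulCommutative P := by
  have : ∀ x ∈ (P : Subgroup G), x * x = 1 := fun x hx => by
    by_cases r : x = 1
    · simp [r]
    · exact (orderOf_two_iff.1 ((IsConj.orderOf_eq' (h.cls x (orderOf_eq_pow_of_mem P.isPGroup' hx) r)).trans h.ht)).1
  refine ⟨⟨fun a b => Subtype.ext ?_⟩⟩
  have e : ∀ x ∈ (P : Subgroup G), x⁻¹ = x := fun x hx => inv_eq_of_mul_eq_one_right (this x hx)
  change (a : G) * b = b * a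
  rw [← e _ (mul_mem a.2 b.2), mul_inv_rev, e _ a.2, e _ b.2]

theorem ne_bot : (P : Subgroup G) ≠ ⊥ := fun e => ne_of_ord h.ht (mem_bot.1 (e ▸ h.tP))

theorem val {θ : G → ℂ} (hθ : IsClassFunction G θ) (hx : x ∈ (P : Subgroup G)) (x1 : x ≠ 1) : θ x = θ t :=
  hθ.apply_eq_of_isConj (h.cls x (orderOf_eq_pow_of_mem P.isPGroup' hx) x1)

theorem res {θ : G → ℂ} (hθ : IsCharacter G θ) : ∃ m a : ℕ, θ 1 - θ t = #(P : Subgroup G) * m ∧ θ t + m = a :=
  res_const hθ _ h.ab h.ne_bot fun _ => h.val hθ.isClassFunction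

theorem resN {θ : N[(P : Subgroup G)] → ℂ} (hθ : IsCharacter _ θ) :
    ∃ m a : ℕ, θ 1 - θ ⟨t, normG _ h.tP⟩ = #(P : Subgroup G) * m ∧ θ ⟨t, normG _ h.tP⟩ + m = a := by
  have e := subgroupOfEquivOfLe (normG (P : Subgroup G))
  rw [← Nat.card_congr e.toEquiv]
  refine res_const hθ _ ⟨⟨fun a b => Subtype.ext (Subtype.ext (IsMulCommutative.comm h.ab a.2 b.2))⟩⟩
    (fun r => ne_of_ord h.ht (congrArg Subtype.val ((eq_bot_iff_forall _).1 r ⟨t, normG _ h.tP⟩ h.tP))) fun x hx x1 => ?_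
  obtain ⟨a, ha⟩ := isConj_iff.1 (h.cls x (orderOf_eq_pow_of_mem P.isPGroup' hx) fun r => x1 (Subtype.ext r))
  obtain ⟨n, hn, e⟩ := fuse (sylowIn_top P) (mem_top a) (IsMulCommutative.cent h.ab hx)
    (ha ▸ IsMulCommutative.cent h.ab h.tP)
  exact hθ.isClassFunction.apply_eq_of_isConj (isConj_iff.2 ⟨⟨n, hn.2⟩, Subtype.ext (e.trans ha)⟩)

theorem mem_of {K : Subgroup G} [hK : K.Normal] (tK : t ∈ K) (hx : ∃ j, orderOf x = 2 ^ j) : x ∈ K := by
  by_cases r : x = 1
  · simp [r]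
  · obtain ⟨a, ha⟩ := isConj_iff.1 (h.cls x hx r).symm
    exact ha ▸ hK.conj_mem _ tK a

theorem le_of {K : Subgroup G} [K.Normal] (tK : t ∈ K) : (P : Subgroup G) ≤ K := fun x hx =>
  h.mem_of tK (orderOf_eq_pow_of_mem P.isPGroup' hx)

theorem mem_or {K : Subgroup G} [hK : K.Normal] (hO : pPrimeCore 2 G = ⊥) : t ∈ K ∨ K = ⊥ := by
  rcases Nat.even_or_odd #K with r | r
  · obtain ⟨x, hx⟩ := exists_prime_orderOf_dvd_card' 2 r.two_dvd
    have hx : orderOf (x : G) = 2 := by simpa using hx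
    obtain ⟨a, ha⟩ := isConj_iff.1 (h.cls x ⟨1, hx⟩ (ne_of_ord hx))
    exact .inl (ha ▸ hK.conj_mem _ x.2 a)
  · exact .inr (le_bot_iff.1 (hO ▸ le_oddCore r))

theorem ne_deg (H : HZ M u k) (hu : 2 ∣ orderOf u) (hχ : χ ∈ principalBlock M G) (h1 : χ ≠ irrOne G) : χ.1 t ≠ χ.1 1 := by
  intro e
  have c := χ.2.isCharacter
  have := c.isClassFunction.normal_charKer
  have tK : t ∈ charKer χ.1 := c.mem_charKer.2 e
  obtain ⟨θ, ψ, k1, k2, k3, k4⟩ := exists_const hχ P
  obtain ⟨φ, hφ⟩ := (mem_range_infl (QuotientGroup.mk'_surjective (charKer χ.1)) (χ := χ)).2 fun g hg =>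
    c.mem_charKer.1 (by simpa using hg)
  have i : IsIrrCharacter _ fun n : N[(P : Subgroup G)] => χ.1 n := by
    rw [← hφ]
    refine φ.2.comp_of_surjective ((QuotientGroup.mk' _).comp (Subgroup.subtype _)) fun a => ?_
    obtain ⟨g, rfl⟩ := QuotientGroup.mk_surjective a
    obtain ⟨n, hn, z, hz, rfl⟩ := mem_sup_of_normal_right.1
      ((Sylow.normalizer_sup_eq_top' P (h.le_of tK)).ge (mem_top g))
    exact ⟨⟨n, hn⟩, by simp [(QuotientGroup.eq_one_iff z).2 hz]⟩
  have := Fintype.ofFinite N[(P : Subgroup G)]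
  have e2 : (fun n : N[(P : Subgroup G)] => χ.1 n) = θ := i.eq_of_classInner_ne_zero k1 (by
    obtain ⟨n, hn⟩ := k2.exists_nat_classInner k1.isCharacter
    rw [k3, classInner_add_left, k1.classInner_self, hn]
    exact_mod_cast (by omega : 1 + n ≠ 0))
  have := H.eq_top hu P (charKer χ.1) (h.le_of tK) fun g hg => by
    have r := regPart_mem hg
    rw [← pPart_mul_regPart 2 g]
    exact mul_mem (h.mem_of tK (isPPart_pPart 2 g).orderOf_eq) (c.mem_charKer.2 (by
      simpa [← e2] using k4 ⟨_, cent_sub _ r⟩ r (not_dvd_orderOf_regPart 2 g)))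
  exact h1 (Subtype.ext (χ.2.charKer_eq_top_iff.1 this))

theorem card_eq : (2 ^ (Nat.card G).factorization 2 : ℕ) = #(P : Subgroup G) := P.card_eq_multiplicity.symm

theorem diff (H : HZ M u k) (hu : 2 ∣ orderOf u) (hχ : χ ∈ principalBlock M G) (h1 : χ ≠ irrOne G) :
    χ.1 1 - χ.1 t = #(P : Subgroup G) := by
  obtain ⟨N, hN⟩ := H.exists_N hu
  rw [h.card_eq] at hN
  choose m a hm ha using fun χ : IrrCharacter G => h.res χ.2.isCharacter
  have m0 : ∀ χ ∈ principalBlock M G, χ ≠ irrOne G → 1 ≤ m χ := fun χ r s => Nat.pos_of_ne_zero fun e =>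
    h.ne_deg H hu r s (by have := hm χ; rw [e, Nat.cast_zero, mul_zero, sub_eq_zero] at this; exact this.symm)
  have e1 := sum_deg_zero (M := M) hu
  have e2 := sum_deg_zero (M := M) (g := t) (h.ht ▸ dvd_rfl)
  have e3 : ∑ χ ∈ (B0 G M).erase (irrOne G), (charDegree χ.1 : ℤ) * (N * m χ - 1) = 0 := by
    have : (#(P : Subgroup G) : ℂ) * ∑ χ ∈ (B0 G M).erase (irrOne G), (charDegree χ.1 : ℂ) * (N * m χ - 1) =
        N * (∑ χ ∈ B0 G M, χ.1 u * χ.1 1 - ∑ χ ∈ B0 G M, χ.1 t * χ.1 1) := by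
      rw [← Finset.sum_sub_distrib, ← Finset.add_sum_erase _ _ one_B0, Finset.mul_sum, irrOne_apply, irrOne_apply,
        irrOne_apply, sub_self, zero_add, Finset.mul_sum]
      refine Finset.sum_congr rfl fun χ r => ?_
      have := H χ (mem_B0.1 (Finset.mem_of_mem_erase r)) (Finset.ne_of_mem_erase r)
      rw [← χ.2.apply_one_eq_charDegree]
      linear_combination -χ.1 1 * N * hm χ + χ.1 1 * N * this + χ.1 1 * hN
    rw [e1, e2, sub_self, mul_zero, mul_eq_zero, or_iff_right natCard_cast_ne_zero] at this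
    exact_mod_cast this
  have d : ∀ χ : IrrCharacter G, (0 : ℤ) < charDegree χ.1 := fun χ => by exact_mod_cast χ.2.charDegree_pos
  have r : χ ∈ (B0 G M).erase (irrOne G) := Finset.mem_erase.2 ⟨h1, mem_B0.2 hχ⟩
  rcases le_or_gt N 0 with n | n
  · refine absurd e3 (Finset.sum_neg (fun χ r => mul_neg_of_pos_of_neg (d χ) ?_) ⟨χ, r⟩).ne
    nlinarith [Int.natCast_nonneg (m χ)]
  · have := (Finset.sum_eq_zero_iff_of_nonneg fun χ r => mul_nonneg (d χ).le (by
      have : (1 : ℤ) ≤ m χ := by exact_mod_cast m0 χ (mem_B0.1 (Finset.mem_of_mem_erase r)) (Finset.ne_of_mem_erase r)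
      nlinarith)).1 e3 χ r
    rw [mul_eq_zero, or_iff_right (d χ).ne', sub_eq_zero] at this
    have : m χ = 1 := by exact_mod_cast Int.eq_one_of_mul_eq_one_left (Int.natCast_nonneg _) this
    rw [hm χ, this, Nat.cast_one, mul_one]

theorem exists_small (H : HZ M u k) (hu : 2 ∣ orderOf u) :
    ∃ χ ∈ principalBlock M G, χ.1 t = -1 ∧ χ.1 1 + 1 = #(P : Subgroup G) := by
  by_contra! hn
  have e2 := sum_deg_zero (M := M) (g := t) (h.ht ▸ dvd_rfl)
  have : ∀ χ ∈ B0 G M, ∃ n : ℕ, χ.1 t * χ.1 1 = n := fun χ r => by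
    by_cases s : χ = irrOne G
    · exact ⟨1, by simp [s]⟩
    obtain ⟨m, a, hm, ha⟩ := h.res χ.2.isCharacter
    have e := h.diff H hu (mem_B0.1 r) s
    have : (m : ℂ) = 1 := mul_left_cancel₀ (natCard_cast_ne_zero (G := P)) (by rw [← hm, e, mul_one])
    rcases a with _ | a
    · exact (hn χ (mem_B0.1 r) (by linear_combination ha - this) (by linear_combination e + ha - this)).elim
    · refine ⟨a * charDegree χ.1, ?_⟩
      rw [χ.2.apply_one_eq_charDegree, show χ.1 t = a by push_cast at ha; linear_combination ha - this, Nat.cast_mul]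
  choose! n hn using this
  rw [Finset.sum_congr rfl hn, ← Nat.cast_sum, Nat.cast_eq_zero, Finset.sum_eq_zero_iff] at e2
  have := hn _ one_B0
  rw [e2 _ one_B0] at this
  simp at this

theorem faithful (hO : pPrimeCore 2 G = ⊥) (h1 : χ.1 t = -1) (hg : χ.1 g = χ.1 1) : g = 1 := by
  have := χ.2.isCharacter.isClassFunction.normal_charKer
  rcases h.mem_or (K := charKer χ.1) hO with r | r
  · have := χ.2.isCharacter.mem_charKer.1 r
    rw [h1, χ.2.apply_one_eq_charDegree] at this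
    exact absurd (by exact_mod_cast this : (-1 : ℤ) = charDegree χ.1) (by omega)
  · exact mem_bot.1 (r ▸ χ.2.isCharacter.mem_charKer.2 hg)

theorem cent_le (hO : pPrimeCore 2 G = ⊥) (hχ : χ ∈ principalBlock M G) (h1 : χ.1 t = -1)
    (h2 : χ.1 1 + 1 = #(P : Subgroup G)) : C[(P : Subgroup G)] ≤ P := by
  obtain ⟨θ, ψ, k1, k2, k3, k4⟩ := exists_const hχ P
  obtain ⟨m, a, hm, ha⟩ := h.resN k1.isCharacter
  obtain ⟨m', a', hm', ha'⟩ := h.resN k2
  have e1 := congrFun k3 1
  have e2 := congrFun k3 ⟨t, normG _ h.tP⟩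
  simp only [Pi.add_apply, OneMemClass.coe_one] at e1 e2
  have s1 : m + m' = 1 := by
    have : (m + m' : ℂ) = 1 := mul_left_cancel₀ (natCard_cast_ne_zero (G := P)) (by
      linear_combination -hm - hm' - e1 + e2 + h2 - h1)
    exact_mod_cast this
  have s2 : a + a' = 0 := by
    have : (a + a' : ℂ) + 1 = (m + m' : ℕ) := by push_cast; linear_combination -ha - ha' - e2 + h1
    rw [s1] at this
    exact_mod_cast add_right_cancel (this.trans (by simp) : (a + a' : ℂ) + 1 = 0 + 1)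
  obtain ⟨rfl, rfl⟩ : a = 0 ∧ a' = 0 := by omega
  have s3 : m ≠ 0 := by
    rintro rfl
    exact k1.apply_one_ne_zero (by simpa using (by linear_combination hm + ha : θ 1 = #(P : Subgroup G) * (0 : ℕ) - (0 : ℕ) + (0 : ℕ)))
  obtain ⟨rfl, rfl⟩ : m = 1 ∧ m' = 0 := by omega
  have s4 : ψ = 0 := k2.eq_zero_of_apply_one (by simpa using
    (by linear_combination hm' + ha' : ψ 1 = #(P : Subgroup G) * (0 : ℕ) - (0 : ℕ) + (0 : ℕ)))
  rw [s4, add_zero] at k3
  intro g hg
  have r := regPart_mem hg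
  have r1 : regPart 2 g = 1 := h.faithful hO h1 (by
    simpa [← k3] using k4 ⟨_, cent_sub _ r⟩ r (not_dvd_orderOf_regPart 2 g))
  have p : IsPGroup 2 (zpowers g) := isPGroup_zpowers_of_orderOf (by
    rw [← pPart_mul_regPart 2 g, r1, mul_one]; exact (isPPart_pPart 2 g).orderOf_eq)
  have := IsPGroup.inf_normalizer_sylow p P
  exact (this.le ⟨mem_zpowers g, cent_sub _ hg⟩).2

end OC

theorem psl_deg {F : Type*} [Field F] [Fintype F] (ho : Odd (Fintype.card F)) (h3 : 3 < Fintype.card F)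
    (φ : IrrCharacter PSL(2, F)) : φ = irrOne _ ∨ Fintype.card F ≤ 2 * charDegree φ.1 + 1 := by
  have i := φ.2.comp_of_surjective (QuotientGroup.mk' _) (QuotientGroup.mk'_surjective _)
  have e := (S2299.result ho).1 _ i
  simp only [map_one, φ.2.apply_one_eq_charDegree] at e
  rw [Nat.odd_iff] at ho
  rcases e with e | e | e | e | e | e
  · refine .inl (Subtype.ext (φ.2.charKer_eq_top_iff.1 (top_le_iff.1 fun g _ => φ.2.isCharacter.mem_charKer.2 ?_)))
    obtain ⟨g, rfl⟩ := QuotientGroup.mk'_surjective _ g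
    have := i.apply_one_eq_one_iff.1 (by simp only [map_one, φ.2.apply_one_eq_charDegree, e]) g
      (by rw [commutator_SL2 (by rwa [Nat.card_eq_fintype_card])]; trivial)
    simpa only [map_one] using this
  all_goals right
  · norm_cast at e; omega
  · norm_cast at e; omega
  · rw [eq_sub_iff_add_eq] at e; norm_cast at e; omega
  · norm_cast at e; omega
  · norm_cast at e; omega

theorem psl_triv {F : Type*} [Field F] [Fintype F] (ho : Odd (Fintype.card F)) (h3 : 3 < Fintype.card F)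
    {θ : PSL(2, F) → ℂ} (hθ : IsCharacter _ θ) {d : ℕ} (h1 : θ 1 = d) (h : 2 * d + 1 < Fintype.card F) (x : PSL(2, F)) :
    θ x = θ 1 := by
  have := Fintype.ofFinite PSL(2, F)
  obtain ⟨m, hm, e⟩ := hθ.exists_nat_coeff
  rw [e, Finset.sum_apply, Finset.sum_apply]
  refine Finset.sum_congr rfl fun φ _ => ?_
  by_cases r : m φ = 0
  · simp [r]
  rcases psl_deg ho h3 φ with rfl | s
  · simp
  · have := hθ.apply_one_re_le_of_classInner_ne_zero φ.2 (by rw [hm]; exact_mod_cast r)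
    rw [h1, φ.2.apply_one_eq_charDegree, Complex.natCast_re, Complex.natCast_re, Nat.cast_le] at this
    omega

theorem psl_four [IsSimpleGroup G] (h : Nat.card G = 60) : ∃ (F : Type) (_ : Field F) (_ : Fintype F),
    Fintype.card F = 2 ^ 2 ∧ Nonempty (G ≃* PSL(2, F)) := by
  have := Fintype.ofFinite (GaloisField 2 2)
  have c : Nat.card (GaloisField 2 2) = 2 ^ 2 := GaloisField.card 2 2 two_ne_zero
  have := Matrix.ProjectiveSpecialLinearGroup.rank_two_simple (F := GaloisField 2 2) (by omega)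
  have d := card_PSL2_mul (F := GaloisField 2 2)
  rw [c] at d
  obtain ⟨e⟩ := nonempty_equiv_alt5_of_simple h
  obtain ⟨f⟩ := nonempty_equiv_alt5_of_simple (G := PSL(2, GaloisField 2 2)) (by simpa using d)
  exact ⟨_, _, _, Nat.card_eq_fintype_card.symm.trans c, ⟨e.trans f.symm⟩⟩

theorem HZ.main (H : HZ M u k) (hO : pPrimeCore 2 G = ⊥) (u1 : u ≠ 1) : Nat.card G = 2 ∨
    ∃ (F : Type) (_ : Field F) (_ : Fintype F) (n : ℕ), 2 ≤ n ∧ Fintype.card F = 2 ^ n ∧ Nonempty (G ≃* PSL(2, F)) ∧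
      u ^ 2 = 1 := by
  obtain ⟨s, hs⟩ := exists_isPPart 2 u
  have ev : 2 ∣ Nat.card G := by
    by_contra r
    have := le_oddCore (N := (⊤ : Subgroup G)) (by rw [card_top]; exact Nat.odd_iff.2 (by omega))
    exact u1 (mem_bot.1 (hO ▸ this (mem_top u)))
  have k0 : k ≠ 0 := by
    rintro rfl
    refine u1 (mem_bot.1 (hO ▸ (kerOf_principalBlock (M := M) (p := 2)).le (mem_kerOf.2 fun χ r => ?_)))
    by_cases e : χ = irrOne G
    · simp [e]
    · exact (sub_eq_zero.1 (H χ r e)).symm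
  obtain ⟨t, ht⟩ := exists_prime_orderOf_dvd_card' 2 ev
  have ts := H.conj k0 hs ⟨1, ht⟩ (ne_of_ord ht)
  have s2 : orderOf s = 2 := (IsConj.orderOf_eq' ts).symm.trans ht
  have hu : 2 ∣ orderOf u := by_contra fun r => ne_of_ord s2 (hs.eq_one_iff.2 r)
  obtain ⟨P, hP⟩ := (isPGroup_zpowers_of_orderOf (p := 2) ⟨1, s2⟩).exists_le_sylow
  have h : OC P s := ⟨s2, hP (mem_zpowers s), fun x => H.conj k0 hs⟩
  obtain ⟨χ, c1, c2, c3⟩ := h.exists_small H hu
  have f : ∀ g, χ.1 g = χ.1 1 → g = 1 := fun g => h.faithful hO c2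
  have : Nontrivial G := ⟨⟨u, 1, u1⟩⟩
  have : IsSimpleGroup G := ⟨fun K _ => (h.mem_or hO).symm.imp_right fun r =>
    H.eq_top hu P K (h.le_of r) ((h.cent_le hO c1 c2 c3).trans (h.le_of r))⟩
  by_cases hG : IsMulCommutative G
  · refine .inl ?_
    have : (zpowers s).Normal := ⟨fun a ha g => by rwa [hG.is_comm.comm g, mul_inv_cancel_right]⟩
    rw [← card_top, ← (IsSimpleGroup.eq_bot_or_eq_top_of_normal (zpowers s) this).resolve_left
      (by simpa using ne_of_ord s2), Nat.card_zpowers, s2]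
  have hab := hab_of_sylow P h.ab
  have key : ∀ (F : Type) (_ : Field F) (_ : Fintype F) (n : ℕ), 2 ≤ n → Fintype.card F = 2 ^ n → (G ≃* PSL(2, F)) →
      u ^ 2 = 1 := fun F _ _ n h1 h2 e => by
    have : CharP F 2 := charP_of_card_eq_prime_pow h2
    have := psl_sq (CharP.cast_eq_zero F 2) (u := e s) (x := e u)
      (by rwa [MulEquiv.orderOf_eq]) (mem_cent1.2 (by simpa using congrArg e hs.commute.eq.symm))
    exact e.injective (by simpa [pow_two] using this)
  have cd : ∀ Q : Sylow 2 G, charDegree χ.1 + 1 = #(Q : Subgroup G) := fun Q => by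
    rw [χ.2.apply_one_eq_charDegree, P.card_eq_multiplicity, ← Q.card_eq_multiplicity] at c3
    exact_mod_cast c3
  right
  rcases simple_cases hG hab with ⟨F, _, _, n, h1, h2, ⟨e⟩, h3⟩ | ⟨Q, hQ⟩ | ⟨t, E, L, v, w, K, F, _, _, W, h1, h2, ⟨e⟩⟩
  · have : CharP F 2 := charP_of_card_eq_prime_pow h2
    have e' := e.trans (slEquivPSL (CharP.cast_eq_zero F 2))
    exact ⟨F, _, _, n, h1, h2, ⟨e'⟩, key F _ _ n h1 h2 e'⟩
  · obtain ⟨F, _, _, h1, h2, ⟨e⟩⟩ := psl_of_klein Q hQ
    have d := cd Q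
    rw [hQ.card_four] at d
    have o : Odd (Fintype.card F) := by rw [Nat.odd_iff]; omega
    have q : Fintype.card F = 5 := by
      by_contra r
      have := psl_triv o (by omega) (χ.2.isCharacter.comp e.symm.toMonoidHom) (d := 3)
        (by simp [χ.2.apply_one_eq_charDegree, show charDegree χ.1 = 3 by omega]) (by omega) (e u)
      exact u1 (f u (by simpa using this))
    have c := card_PSL2_mul (F := F)
    rw [← Nat.card_congr e.toEquiv, Nat.card_eq_fintype_card (α := F), q] at c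
    obtain ⟨F', _, _, k1, ⟨e'⟩⟩ := psl_four (G := G) (by norm_num at c; omega)
    exact ⟨F', _, _, 2, le_rfl, k1, ⟨e'⟩, key F' _ _ 2 le_rfl k1 e'⟩
  · exfalso
    obtain rfl := wj_eq (simple_perfect hG) W h1 e
    obtain ⟨f'⟩ := prod_equiv W.ht W.dp
    replace f' := f'.trans ((MulEquiv.refl _).prodCongr e)
    have d := cd P
    rw [W.card_sylow (sylowIn_top P)] at d
    have := Fintype.ofFinite G
    rcases jtw' (simple_perfect hG) hab W.ht (by omega) f' with ⟨m, m1, k1, k2⟩ | ⟨-, k2, -⟩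
    · have : 3 ^ 3 ≤ Nat.card F := k1 ▸ Nat.pow_le_pow_right (by omega) (by omega)
      rw [Nat.card_eq_fintype_card] at this h1
      have := psl_triv h1 (by omega) (χ.2.isCharacter.comp (E.subtype.comp e.symm.toMonoidHom)) (d := 7)
        (by simp [χ.2.apply_one_eq_charDegree, show charDegree χ.1 = 7 by omega]) (by omega) (e v)
      exact ne_of_ord W.bsw.ht (Subtype.ext (f v (by simpa using this)))
    · have := S4503.result 19 (by norm_num) (by rw [k2.card]; norm_num) (by rw [k2.card]; norm_num) (fun K hK r => by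
        rcases IsSimpleGroup.eq_bot_or_eq_top_of_normal K hK with rfl | rfl
        · simp at r
        · rw [card_top, k2.card] at r; omega) χ.1 χ.2.isCharacter f
      omega

end Cfsg.Agent.Hz
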