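import Cfsg.Agent.Small.BT
import Cfsg.Agent.BMod.Rank
import Cfsg.Agent.Block.Galois
import Cfsg.Agent.Transfer.Abelian
import Cfsg.Agent.Invol.Basic
import Cfsg.Agent.Block.Pairs
import Cfsg.Agent.S3784
import Cfsg.Agent.Small.Simp

/-! Class functions depending on the `p`-part only (`gen_pPart`, `mem_principal_of_inner`), sizes of
`p`-sections (`ncard_sec`), and the norm three generalized character `3 · 1_T` attached to an index
three subgroup of an abelian Sylow 3-subgroup (`main`). -/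

set_option autoImplicit false
set_option linter.unusedSectionVars false
set_option linter.unusedVariables false

namespace Cfsg.Agent.Hz3

open Cfsg Cfsg.Agent.Char Cfsg.Agent.CharDeep Cfsg.Agent.Block Cfsg.Agent.Small Finset Subgroup
open scoped ComplexConjugate

variable {G : Type*} [Group G] [Finite G] {p : ℕ} [hp : Fact p.Prime] {χ : IrrCharacter G} {x y : G}

theorem pPart_mul [Group.IsNilpotent G] (a b : G) : pPart p (a * b) = pPart p a * pPart p b := by
  obtain ⟨P⟩ : Nonempty (Sylow p G) := inferInstance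
  have hN : (P : Subgroup G).Normal :=
    Sylow.normal_of_normalizerCondition Group.normalizerCondition_of_isNilpotent P
  have hN' : ∀ g : G, g ∈ Subgroup.normalizer ((P : Subgroup G) : Set G) := fun g => by
    rw [Subgroup.normalizer_eq_top]; trivial
  obtain ⟨k, hk⟩ := IsPPart.orderOf_eq (isPPart_pPart p b)
  have h3 : Commute (pPart p b) (regPart p a) :=
    Transfer.mem_centralizer_of_hasNormalPComplement Transfer.hasNormalPComplement_of_isNilpotent
      P.isPGroup' (hN' _) ((Nat.Prime.coprime_iff_not_dvd hp.out).2 (not_dvd_orderOf_regPart p a)).symm _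
      (Invol.mem_sylow_of_mem_normalizer (n := k) (by rw [← hk, pow_orderOf_eq_one]) P (hN' _))
  have h4 := pPart_mul_regPart p (a * b)
  rw [regPart_mul_of_isNilpotent] at h4
  refine mul_right_cancel (b := regPart p a * regPart p b) ?_
  rw [h4, mul_assoc, ← mul_assoc (pPart p b), h3.eq, mul_assoc, pPart_mul_regPart, ← mul_assoc,
    pPart_mul_regPart]

theorem gen_pPart (P : Sylow p G) {F : G → ℂ} (hF : IsClassFunction G F)
    (hP : IsGeneralizedCharacter P fun x : P => F x) :
    IsGeneralizedCharacter G fun g => F (pPart p g) := by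
  refine isGeneralizedCharacter_of_nilpotent (fun a g => ?_) fun E hE => ?_
  · simp only [pPart_conj]
    exact hF _ _
  · let π : E →* G := E.subtype.comp (MonoidHom.mk' (pPart p) pPart_mul)
    have h1 : IsPGroup p π.range := fun ⟨_, e, he⟩ => by
      obtain ⟨k, hk⟩ := IsPPart.orderOf_eq (isPPart_pPart p e)
      refine ⟨k, Subtype.ext ?_⟩
      subst he
      change ((pPart p e : E) : G) ^ p ^ k = 1
      rw [← Subgroup.coe_pow, ← hk, pow_orderOf_eq_one, Subgroup.coe_one]
    obtain ⟨a, ha⟩ := Invol.exists_conj_into_sylow h1 P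
    have h2 := hP.comp (((MulAut.conj a).toMonoidHom.comp π).codRestrict (P : Subgroup G)
      fun e => ha _ ⟨e, rfl⟩)
    convert h2 using 2 with e
    rw [pPart_coe]
    exact (hF _ a).symm

theorem mem_principal_of_inner [Fintype G] (M : Ideal AlgInt) [PMod p M] {F : G → ℂ}
    (hF : IsClassFunction G F) (h : classInner (fun g => F (pPart p g)) χ.1 ≠ 0) :
    χ ∈ principalBlock M G := by
  classical
  by_contra hχ
  set η : G → ℂ := fun g => F (pPart p g) with hη
  have h1 : ∀ h, blockPart (principalBlock M G) η h = η h := fun h => by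
    have e1 : ∀ g, η g * col (principalBlock M G) g h = η h * col (principalBlock M G) g h := fun g => by
      by_cases c : IsConj (pPart p g) (pPart p h)
      · obtain ⟨a, ha⟩ := isConj_iff.1 c
        simp only [hη, ← ha, hF _ a]
      · rw [col_eq_zero isBlockUnion_principal (isPPart_pPart p g) (isPPart_pPart p h) c, mul_zero,
          mul_zero]
    have e2 : ∀ θ : G → ℂ, blockPart (principalBlock M G) θ h =
        (Nat.card G : ℂ)⁻¹ * ∑ g, θ g * col (principalBlock M G) g h := fun θ => by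
      simp only [blockPart_apply_sum, col_apply, mul_sum]
      rw [sum_comm]
      refine sum_congr rfl fun ψ _ => ?_
      split_ifs
      · rw [classInner_eq_sum_inv _ ψ.2.isCharacter.isGeneralizedCharacter, mul_sum, sum_mul]
        exact sum_congr rfl fun g _ => by ring
      · simp
    have e3 := e2 (irrOne G).1
    rw [blockPart_irr_of_mem irrOne_mem_principal] at e3
    simp only [irrOne_apply, one_mul] at e3
    rw [e2, sum_congr rfl fun g _ => e1 g, ← mul_sum, mul_left_comm, ← e3, mul_one]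
  apply h
  rw [← funext h1, funext (blockPart_apply_sum _ _)]
  have := classInner_sum_irr (fun ψ => if ψ ∈ principalBlock M G then classInner η ψ.1 else 0) χ
  rw [if_neg hχ] at this
  refine Eq.trans ?_ this
  congr 1
  ext g
  simp only [Finset.sum_apply, Pi.smul_apply, smul_eq_mul, ite_mul, zero_mul]

theorem not_dvd_of_principal {M : Ideal AlgInt} [PMod p M] (h : ¬ p ^ 3 ∣ Nat.card G)
    (hχ : χ ∈ principalBlock M G) : ¬ p ∣ charDegree χ.1 := fun hd => by
  have e1 := blockDefect_eq_of_not_dvd (p := p) (irrOne_mem_principal (M := M) (G := G))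
    (by simpa using hp.out.one_lt.ne')
  have e2 := deg_add_defect p hχ
  have e3 := (hp.out.dvd_iff_one_le_factorization (deg_ne_zero χ.2)).1 hd
  have e4 := BMod.height_add_two_le isPBlock_principalBlock hχ (by omega)
  rw [hp.out.pow_dvd_iff_le_factorization Nat.card_pos.ne'] at h
  omega

theorem three [Fintype G] {η : G → ℂ} (hη : IsGeneralizedCharacter G η) (h0 : η 1 = 0)
    (h1 : classInner η (irrOne G).1 = 1) (h3 : classInner η η = 3) :
    ∃ χ θ : IrrCharacter G, χ ≠ irrOne G ∧ θ ≠ irrOne G ∧ classInner η χ.1 ≠ 0 ∧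
      classInner η θ.1 ≠ 0 ∧ ∀ g, η g = 1 + χ.1 g - θ.1 g := by
  classical
  obtain ⟨θ, hθ, h4⟩ : ∃ θ, IsIrrCharacter G θ ∧ (classInner η θ).re < 0 := by
    by_contra! h
    have := (hη.isCharacter_of_nonneg h).apply_one_re_le_of_classInner_ne_zero (irrOne G).2
      (by rw [h1]; exact one_ne_zero)
    rw [h0] at this
    norm_num at this
  obtain ⟨m, hm⟩ := hη.exists_int_classInner hθ.isCharacter.isGeneralizedCharacter
  have n1 : (⟨θ, hθ⟩ : IrrCharacter G) ≠ irrOne G := fun e => by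
    rw [show θ = (irrOne G).1 from congrArg Subtype.val e, h1] at h4
    norm_num at h4
  have o1 : classInner θ (irrOne G).1 = 0 :=
    hθ.classInner_eq_zero_of_ne (irrOne G).2 fun e => n1 (Subtype.ext e)
  have o2 : classInner (irrOne G).1 θ = 0 := classInner_eq_zero_comm _ _ |>.1 o1
  have o3 : classInner (irrOne G).1 η = 1 := by rw [← conj_classInner, h1, map_one]
  have o4 : classInner θ η = m := by rw [← conj_classInner, hm, map_intCast]
  have hn : classInner (η - (irrOne G).1 + θ) (η - (irrOne G).1 + θ) = 3 + 2 * m := by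
    simp only [classInner_add_left, classInner_add_right, classInner_sub_left, classInner_sub_right,
      h1, h3, hm, o1, o2, o3, o4, hθ.classInner_self, (irrOne G).2.classInner_self]
    ring
  have h5 := classInner_self_re_nonneg (η - (irrOne G).1 + θ)
  rw [hn] at h5
  rw [hm] at h4
  obtain rfl : m = -1 := by
    simp only [Complex.intCast_re] at h4
    have h6 : (0 : ℝ) ≤ 3 + 2 * m := by simpa using h5
    have h7 : m < 0 := by exact_mod_cast h4
    have h8 : 0 ≤ 3 + 2 * m := by exact_mod_cast h6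
    omega
  have hχ : IsIrrCharacter G (η - (irrOne G).1 + θ) :=
    ((hη.sub (irrOne G).2.isCharacter.isGeneralizedCharacter).add
      hθ.isCharacter.isGeneralizedCharacter).isIrrCharacter_of_pos (by rw [hn]; norm_num) (by
        have : (1 : ℝ) ≤ charDegree θ := by exact_mod_cast hθ.charDegree_pos
        simpa [h0, hθ.apply_one_eq_charDegree] using this)
  refine ⟨⟨_, hχ⟩, ⟨θ, hθ⟩, fun e => ?_, n1, ?_, by rw [hm]; norm_num, fun g => by simp only [Pi.add_apply, Pi.sub_apply, irrOne_apply]; ring⟩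
  · have := congrArg (fun ψ : IrrCharacter G => classInner ψ.1 (irrOne G).1) e
    simp only [classInner_add_left, classInner_sub_left, h1, o1, (irrOne G).2.classInner_self] at this
    norm_num at this
  · simp only [classInner_add_right, classInner_sub_right, h1, h3, hm]
    norm_num

variable (p) in
/-- The number of elements with `p`-part `x`. -/
noncomputable def fib (x : G) : ℕ := {g | pPart p g = x}.ncard

theorem fib_conj (a x : G) : fib p (a * x * a⁻¹) = fib p x := by
  refine (Set.ncard_congr (fun g _ => a * g * a⁻¹) (fun g hg => ?_) (fun g h _ _ e => ?_)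
    fun g hg => ⟨a⁻¹ * g * a⁻¹⁻¹, ?_, by group⟩).symm
  · rw [Set.mem_ofPred_eq, pPart_conj, hg]
  · simpa using e
  · rw [Set.mem_ofPred_eq, pPart_conj, hg]; group

theorem ncard_sec (x : G) :
    {g | IsConj x (pPart p g)}.ncard = (centralizer ({x} : Set G)).index * fib p x := by
  classical
  have := Fintype.ofFinite G
  rw [← Char.card_filter_isConj, Set.ncard_eq_toFinset_card', card_eq_sum_card_fiberwise
    (f := pPart p) (t := univ.filter fun y => IsConj x y) (fun g hg => by simpa using hg),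
    ← smul_eq_mul, ← sum_const]
  refine sum_congr rfl fun y hy => ?_
  obtain ⟨a, rfl⟩ := isConj_iff.1 (mem_filter.1 hy).2
  rw [← fib_conj a x, fib, Set.ncard_eq_toFinset_card']
  congr 1
  ext g
  simp only [Set.toFinset_ofPred, mem_filter, mem_univ, true_and, and_iff_right_iff_imp]
  exact fun e => e ▸ (mem_filter.1 hy).2

theorem fib_aux (x : G) : ∃ f : {g | pPart p g = x} × zpowers x → centralizer ({x} : Set G),
    Function.Injective f ∧ ∀ u, pPart p (f u : G) = u.2 := by
  have h0 : ∀ u : {g | pPart p g = x} × zpowers x, Commute x (regPart p (u.1 : G)) := fun u => by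
    have := commute_pPart_regPart p (u.1 : G)
    rwa [u.1.2] at this
  have h1 : ∀ u : {g | pPart p g = x} × zpowers x, IsPPart p (u.2 * regPart p (u.1 : G)) u.2 := fun u => by
    obtain ⟨k, hk⟩ := IsPPart.orderOf_eq (isPPart_pPart p (u.1 : G))
    rw [u.1.2] at hk
    obtain ⟨j, -, hj⟩ := (Nat.dvd_prime_pow hp.out).1 (hk ▸ orderOf_dvd_of_mem_zpowers u.2.2)
    obtain ⟨i, hi⟩ := u.2.2
    exact ⟨_, rfl, hi ▸ (h0 u).zpow_left i, ⟨j, hj⟩, not_dvd_orderOf_regPart p _⟩
  refine ⟨fun u => ⟨u.2 * regPart p (u.1 : G), mul_mem ?_ ?_⟩, fun u v e => ?_,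
    fun u => IsPPart.pPart_eq (h1 u)⟩
  · obtain ⟨i, hi⟩ := u.2.2
    exact hi ▸ zpow_mem (self_mem_centralizer x) i
  · exact mem_centralizer_singleton_iff.2 (h0 u).symm
  · have e1 : (u.2 : G) * regPart p (u.1 : G) = v.2 * regPart p (v.1 : G) := congrArg Subtype.val e
    have e2 : (u.2 : G) = v.2 := IsPPart.unique (h1 u) (e1 ▸ h1 v)
    rw [e2, mul_right_inj] at e1
    refine Prod.ext (Subtype.ext ?_) (Subtype.ext e2)
    rw [← pPart_mul_regPart p (u.1 : G), ← pPart_mul_regPart p (v.1 : G), e1, u.1.2, v.1.2]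

theorem sec_of_fib {k : ℕ} (h : fib p x * k ≤ Nat.card (centralizer ({x} : Set G))) :
    {g | IsConj x (pPart p g)}.ncard * k ≤ Nat.card G := by
  rw [ncard_sec, ← (centralizer ({x} : Set G)).index_mul_card, mul_assoc]
  exact Nat.mul_le_mul_left _ h

theorem sec_le (x : G) : {g | IsConj x (pPart p g)}.ncard * orderOf x ≤ Nat.card G := by
  obtain ⟨f, h1, -⟩ := fib_aux (p := p) x
  have := Nat.card_le_card_of_injective f h1
  rw [Nat.card_prod, Nat.card_zpowers, Nat.card_coe_set_eq] at this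
  exact sec_of_fib this

theorem sec_lt (hy : ∃ k, orderOf y = p ^ k) (hc : Commute x y) (hn : y ∉ zpowers x) :
    {g | IsConj x (pPart p g)}.ncard * orderOf x < Nat.card G := by
  obtain ⟨f, h1, h2⟩ := fib_aux (p := p) x
  have : Nat.card _ < Nat.card _ := lt_of_not_ge fun h => by
    obtain ⟨u, hu⟩ := (h1.bijective_of_nat_card_le h).2 ⟨y, mem_centralizer_singleton_iff.2 hc.symm⟩
    have h3 := h2 u
    rw [hu, IsPPart.pPart_eq (x := y) ⟨1, mul_one _, Commute.one_right _, hy, by
      simpa using hp.out.one_lt.ne'⟩] at h3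
    exact hn (h3 ▸ u.2.2)
  rw [Nat.card_prod, Nat.card_zpowers, Nat.card_coe_set_eq] at this
  rw [ncard_sec, ← (centralizer ({x} : Set G)).index_mul_card, mul_assoc]
  exact Nat.mul_lt_mul_of_pos_left this (Nat.pos_of_ne_zero index_ne_zero_of_finite)

theorem sec_compl (P : Sylow p G) (hP : (P : Subgroup G) ≤ centralizer ({x} : Set G))
    (h : HasNormalPComplement p (centralizer ({x} : Set G))) :
    {g | IsConj x (pPart p g)}.ncard * Nat.card P ≤ Nat.card G := by
  refine sec_of_fib ?_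
  have h0 : ∀ g : {g | pPart p g = x}, regPart p (g : G) ∈ centralizer ({x} : Set G) := fun g => by
    have := commute_pPart_regPart p (g : G)
    rw [g.2] at this
    exact mem_centralizer_singleton_iff.2 this.symm
  have h1 := Nat.card_le_card_of_injective (fun g : {g | pPart p g = x} =>
    (⟨⟨_, h0 g⟩, mem_pPrimeCore_of_complement h (by
      rw [← Subgroup.orderOf_coe]; exact not_dvd_orderOf_regPart p _)⟩ :
      pPrimeCore p (centralizer ({x} : Set G)))) fun g g' e => Subtype.ext (by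
    have e1 : regPart p (g : G) = regPart p (g' : G) := congrArg (fun z => (z.1 : G)) e
    rw [← pPart_mul_regPart p (g : G), ← pPart_mul_regPart p (g' : G), e1, g.2, g'.2])
  rw [Nat.card_coe_set_eq] at h1
  refine (Nat.mul_le_mul_right _ h1).trans (Nat.le_of_dvd Nat.card_pos ?_)
  obtain ⟨k, hk⟩ := IsPGroup.iff_card.1 P.isPGroup'
  refine Nat.Coprime.mul_dvd_of_dvd_of_dvd ?_ (card_subgroup_dvd_card _) (card_dvd_of_le hP)
  rw [hk]
  exact (Solv.coprime_card_pPrimeCore p _).pow_right k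

theorem mem_three {r z : G} (h : r ^ 3 = 1) (hz : z ∈ zpowers r) : z = 1 ∨ z = r ∨ z = r⁻¹ := by
  obtain ⟨i, rfl⟩ := mem_zpowers_iff.1 hz
  have h1 : r ^ (3 : ℤ) = 1 := by exact_mod_cast h
  rw [zpow_eq_zpow_emod i h1]
  rcases (by omega : i % 3 = 0 ∨ i % 3 = 1 ∨ i % 3 = 2) with e | e | e <;> rw [e]
  · simp
  · simp
  · exact .inr (.inr (eq_inv_of_mul_eq_one_left (by rw [← h1, ← zpow_add_one]; rfl)))

/-- `g` is conjugate into `P \ R`. -/
def InT (P R : Subgroup G) (g : G) : Prop := ∃ t ∈ P, t ∉ R ∧ IsConj t g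

open scoped _root_.Classical in
theorem main (P : Sylow 3 G) (ab : IsMulCommutative P) {R : Subgroup G}
    (hi : R.relIndex P = 3) (hst : ∀ t ∈ (P : Subgroup G), t ∉ R → ∀ s ∈ R, ¬ IsConj t s)
    (hμ : 3 * {g | InT P R (pPart 3 g)}.ncard < 2 * Nat.card G) (M : Ideal AlgInt) [PMod 3 M] :
    ∃ χ θ : IrrCharacter G, χ ≠ irrOne G ∧ θ ≠ irrOne G ∧ χ ∈ principalBlock M G ∧
      θ ∈ principalBlock M G ∧
      ∀ g, (if InT P R (pPart 3 g) then 3 else 0) = 1 + χ.1 g - θ.1 g := by
  have := Fintype.ofFinite G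
  have hF : IsClassFunction G fun z => if InT P R z then (3 : ℂ) else 0 := fun g a => by
    refine if_congr ⟨fun ⟨t, h1, h2, h3⟩ => ⟨t, h1, h2, h3.trans (isConj_iff.2 ⟨a, rfl⟩).symm⟩,
      fun ⟨t, h1, h2, h3⟩ => ⟨t, h1, h2, h3.trans (isConj_iff.2 ⟨a, rfl⟩)⟩⟩ rfl rfl
  have hP : ∀ x ∈ (P : Subgroup G), InT P R x ↔ x ∉ R := fun x hx =>
    ⟨fun ⟨t, h1, h2, h3⟩ e => hst t h1 h2 x e h3, fun e => ⟨x, hx, e, IsConj.refl _⟩⟩
  have hη := gen_pPart P hF (by
    have hN : (R.subgroupOf P).Normal := inferInstance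
    have := ((isCharacter_one (G := P)).isGeneralizedCharacter.intCast_smul 3).sub
      (isCharacter_indFun (R.subgroupOf P) isCharacter_one).isGeneralizedCharacter
    convert this using 2 with x
    simp only [hP x x.2, Pi.sub_apply, Pi.smul_apply, smul_eq_mul]
    split_ifs with h
    · have := indFun_normal_coe (R.subgroupOf P) (fun _ => (1 : ℂ)) ⟨x, h⟩
      simp only [Finset.sum_const, Finset.card_univ, nsmul_eq_mul, mul_one] at this
      rw [this, ← Nat.card_eq_fintype_card, ← (R.subgroupOf P).card_mul_index, Nat.cast_mul,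
        inv_mul_cancel_left₀ natCard_cast_ne_zero, show (R.subgroupOf P).index = 3 from hi]
      simp
    · rw [indFun_normal_of_not_mem (R.subgroupOf P) _ h]; simp)
  set S := {g | InT P R (pPart 3 g)} with hS
  have h1 : ∑ g, (if InT P R (pPart 3 g) then (1 : ℂ) else 0) = S.ncard := by
    rw [sum_boole, Set.ncard_eq_toFinset_card', Set.toFinset_ofPred]
  obtain ⟨n, hn⟩ := hη.exists_int_classInner (irrOne G).2.isCharacter.isGeneralizedCharacter
  have h2 : (Nat.card G : ℂ) * n = 3 * S.ncard := by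
    rw [← hn, card_mul_classInner, ← h1, mul_sum]
    exact sum_congr rfl fun g _ => by simp
  have h3 : 0 < S.ncard := by
    obtain ⟨t, h4, h5⟩ : ∃ t ∈ (P : Subgroup G), t ∉ R := by
      by_contra! h
      rw [relIndex_eq_one.2 h] at hi
      omega
    refine (Set.ncard_pos).2 ⟨t, t, h4, h5, ?_⟩
    rw [IsPPart.pPart_eq (x := t) ⟨1, mul_one _, Commute.one_right _,
      orderOf_eq_pow_of_mem P.isPGroup' h4, by simp⟩]
  obtain rfl : n = 1 := by
    have h4 : (Nat.card G : ℤ) * n = 3 * S.ncard := by exact_mod_cast h2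
    have h5 : (0 : ℤ) < Nat.card G := by exact_mod_cast Nat.card_pos
    have h6 : 0 < n := pos_of_mul_pos_left (b := (Nat.card G : ℤ)) (by rw [mul_comm]; omega) h5.le
    have h7 : n < 2 := lt_of_mul_lt_mul_left (a := (Nat.card G : ℤ)) (by omega) h5.le
    omega
  obtain ⟨χ, θ, h4, h5, h6, h7, h8⟩ := three hη
    (by rw [pPart_eq_one_iff.2 (by simp), hP 1 (one_mem _), if_neg (by simp)]) (by simpa using hn) (by
      refine mul_left_cancel₀ (natCard_cast_ne_zero (G := G)) ?_
      rw [card_mul_classInner, show (Nat.card G : ℂ) * 3 = 3 * (Nat.card G * (1 : ℤ)) by simp [mul_comm],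
        h2, ← h1, mul_sum, mul_sum]
      exact sum_congr rfl fun g _ => by split_ifs <;> simp [map_ofNat])
  exact ⟨χ, θ, h4, h5, mem_principal_of_inner M hF h6, mem_principal_of_inner M hF h7, h8⟩

theorem not_sq_dvd [IsSimpleGroup G] (hG : ¬ IsCyclic G) (h1 : χ ≠ irrOne G)
    (hd : charDegree χ.1 = p) : ¬ p ^ 2 ∣ Nat.card G := fun h2 => by
  classical
  obtain ⟨Q⟩ : Nonempty (Sylow p G) := inferInstance
  have := Fintype.ofFinite (Q : Subgroup G)
  have h3 : p ^ 2 ∣ Nat.card Q := by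
    rw [← (Q : Subgroup G).card_mul_index] at h2
    exact ((hp.out.coprime_iff_not_dvd.2 Q.not_dvd_index).pow_left 2).dvd_of_dvd_mul_right h2
  have hψ := χ.2.isCharacter.restrict (Q : Subgroup G)
  by_cases hc : ∀ c ∈ _root_.commutator (Q : Subgroup G), c = 1
  · have h4 := card_dvd_deg_sub (P := Q) (n := 0) χ.2.isCharacter fun z hz z1 => by
      rw [apply_eq_zero_of_pow (q := p) (k := 1) hG h1 (by simpa using hd) z1
        (not_dvd_index_centralizer Q fun w hw => ?_), Int.cast_zero]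
      have := hc _ (commutator_mem_commutator (g₁ := ⟨w, hw⟩) (g₂ := ⟨z, hz⟩) (mem_top _) (mem_top _))
      exact congrArg Subtype.val (commutatorElement_eq_one_iff_mul_comm.1 this)
    rw [hd, sub_zero, Int.natCast_dvd_natCast] at h4
    have := Nat.le_of_dvd hp.out.pos (h3.trans h4)
    nlinarith [hp.out.two_le]
  push Not at hc
  obtain ⟨c, hc, c1⟩ := hc
  obtain ⟨φ, h4, h5⟩ : ∃ φ : IrrCharacter (Q : Subgroup G),
      classInner (fun x : (Q : Subgroup G) => χ.1 x) φ.1 ≠ 0 ∧ φ.1 c ≠ φ.1 1 := by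
    by_contra! h
    refine c1 (Subtype.ext (eq_one_of_apply h1 ?_))
    refine (hψ.isClassFunction.apply_eq_sum_irr c).trans
      (Eq.trans (sum_congr rfl fun φ _ => ?_) (hψ.isClassFunction.apply_eq_sum_irr 1).symm)
    by_cases e : classInner (fun x : (Q : Subgroup G) => χ.1 x) φ.1 = 0
    · rw [e, zero_mul, zero_mul]
    · rw [h φ e]
  obtain ⟨ψ, h6, h7⟩ := hψ.exists_add_of_classInner_ne_zero φ.2 h4
  obtain ⟨k, hk⟩ := IsPGroup.iff_card.1 Q.isPGroup'
  obtain ⟨j, -, hj⟩ := (Nat.dvd_prime_pow hp.out).1 (hk ▸ φ.2.charDegree_dvd_card)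
  have h8 := congrFun h7 1
  simp only [OneMemClass.coe_one, Pi.add_apply, χ.2.apply_one_eq_charDegree,
    φ.2.apply_one_eq_charDegree, h6.apply_one_eq_charDegree, hd, hj] at h8
  have h9 : p = p ^ j + charDegree ψ := by exact_mod_cast h8
  have h10 : j ≠ 0 := by
    rintro rfl
    exact h5 (φ.2.apply_one_eq_one_iff.1 (by rw [φ.2.apply_one_eq_charDegree, hj]; simp) c hc)
  have h11 := Nat.le_self_pow h10 p
  rw [h6.eq_zero_of_apply_one (by rw [h6.apply_one_eq_charDegree, show charDegree ψ = 0 by omega]; simp),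
    add_zero] at h7
  have : Nontrivial (Q : Subgroup G) := ⟨c, 1, c1⟩
  have := Q.isPGroup'.center_nontrivial
  obtain ⟨z, hz⟩ := exists_ne (1 : center (Q : Subgroup G))
  have h12 := φ.2.isCharacter.mem_charCenter.1 (φ.2.center_le_charCenter z.2)
  rw [← h7] at h12
  exact hz (Subtype.ext (Subtype.ext (eq_one_of_norm hG h1 (χ.2.isCharacter.mem_charCenter.2 h12))))

theorem perf [IsSimpleGroup G] (hG : ¬ IsCyclic G) : _root_.commutator G = ⊤ :=
  ((inferInstance : (_root_.commutator G).Normal).eq_bot_or_eq_top).resolve_left fun e =>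
    not_solvable hG ⟨1, e⟩

theorem consec {q a b d : ℕ} (hq : q.Prime) (h2 : q ≠ 2) (h3 : q ≠ 3) (h1 : 1 < d)
    (hd : d ∣ 2 ^ a * q ^ b) (hd' : d + 1 ∣ 2 ^ a * q ^ b) :
    (d = q ∧ ∃ k, d + 1 = 2 ^ k) ∨ (d + 1 = q ∧ ∃ k, d = 2 ^ k) := by
  have c2 : (2 : ℕ).Coprime q := (Nat.coprime_primes Nat.prime_two hq).2 h2.symm
  have e1 : ∀ n, n ∣ 2 ^ a * q ^ b → ¬ 2 ∣ n → ∃ j, n = q ^ j := fun n hn h =>
    ((Nat.dvd_prime_pow hq).1 (((Nat.prime_two.coprime_iff_not_dvd.2 h).symm.pow_right a).dvd_of_dvd_mul_left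
      hn)).imp fun _ h => h.2
  have e2 : ∀ n, n ∣ 2 ^ a * q ^ b → ¬ q ∣ n → ∃ j, n = 2 ^ j := fun n hn h =>
    ((Nat.dvd_prime_pow Nat.prime_two).1 (((hq.coprime_iff_not_dvd.2 h).symm.pow_right b).dvd_of_dvd_mul_right
      hn)).imp fun _ h => h.2
  have e3 : ¬ (q ∣ d ∧ q ∣ d + 1) := fun h =>
    hq.one_lt.ne' (Nat.dvd_one.1 ((Nat.dvd_add_right h.1).1 h.2))
  by_cases h : 2 ∣ d
  · obtain ⟨j, hj⟩ := e1 _ hd' (by omega)
    have j0 : j ≠ 0 := by rintro rfl; rw [pow_zero] at hj; omega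
    obtain ⟨i, hi⟩ := e2 _ hd fun e => e3 ⟨e, hj ▸ dvd_pow_self q j0⟩
    have i0 : i ≠ 0 := by rintro rfl; rw [pow_zero] at hi; omega
    rcases S3784.result q 2 j i hq Nat.prime_two (by omega) (by omega) (by omega) with h | h | h
    · exact absurd h.1 h2
    · exact .inr ⟨by omega, i, hi⟩
    · exact absurd ((Nat.prime_dvd_prime_iff_eq hq Nat.prime_three).1 (hq.dvd_of_dvd_pow (n := 2)
        (show q ∣ 9 from h.1 ▸ dvd_pow_self q j0))) h3
  · obtain ⟨j, hj⟩ := e1 _ hd h
    have j0 : j ≠ 0 := by rintro rfl; rw [pow_zero] at hj; omega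
    obtain ⟨i, hi⟩ := e2 _ hd' fun e => e3 ⟨hj ▸ dvd_pow_self q j0, e⟩
    have i0 : i ≠ 0 := by rintro rfl; rw [pow_zero] at hi; omega
    rcases S3784.result 2 q i j Nat.prime_two hq (by omega) (by omega) (by omega) with h4 | h4 | h4
    · exact .inl ⟨by omega, i, hi⟩
    · exact absurd h4.1 h2
    · omega

/-- The degrees in `main` when `|G| = 3^c 2^a q^b` with `c ≤ 2`. -/
theorem degs [IsSimpleGroup G] (hG : ¬ IsCyclic G) {q a b c : ℕ} (hq : q.Prime) (h2 : q ≠ 2) (h3 : q ≠ 3)
    (hc : c ≤ 2) (h : Nat.card G = 3 ^ c * 2 ^ a * q ^ b) {M : Ideal AlgInt} [PMod 3 M]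
    {θ : IrrCharacter G} (h4 : χ ≠ irrOne G) (h5 : θ ≠ irrOne G) (h6 : χ ∈ principalBlock M G)
    (h7 : θ ∈ principalBlock M G) (h8 : 0 = 1 + χ.1 1 - θ.1 1) :
    b = 1 ∧ charDegree θ.1 = charDegree χ.1 + 1 ∧
      ((charDegree χ.1 = q ∧ ∃ k, q + 1 = 2 ^ k) ∨ (charDegree θ.1 = q ∧ ∃ k, charDegree χ.1 = 2 ^ k)) := by
  have := Fact.mk hq
  have h9 : ¬ 3 ^ 3 ∣ Nat.card G := fun e => by
    rw [h, mul_assoc] at e
    have := (Nat.pow_dvd_pow_iff_le_right (by decide)).1 ((Nat.Coprime.pow_left 3 (Nat.Coprime.mul_right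
      (Nat.Coprime.pow_right a (by decide)) (((Nat.coprime_primes Nat.prime_three hq).2
        h3.symm).pow_right b))).dvd_of_dvd_mul_right e)
    omega
  have e1 : ∀ ψ ∈ principalBlock M G, charDegree ψ.1 ∣ 2 ^ a * q ^ b := fun ψ hψ =>
    ((Nat.prime_three.coprime_iff_not_dvd.2 (not_dvd_of_principal h9 hψ)).symm.pow_right
      c).dvd_of_dvd_mul_left (by rw [← mul_assoc, ← h]; exact ψ.2.charDegree_dvd_card)
  have e2 : charDegree θ.1 = charDegree χ.1 + 1 := by
    rw [χ.2.apply_one_eq_charDegree, θ.2.apply_one_eq_charDegree] at h8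
    exact_mod_cast (by linear_combination h8 : (charDegree θ.1 : ℂ) = charDegree χ.1 + 1)
  have e3 : 1 < charDegree χ.1 := lt_of_le_of_ne χ.2.charDegree_pos fun e =>
    h4 (eq_irrOne_of_degree (perf hG) e.symm)
  have e4 : ∀ ψ ∈ principalBlock M G, ψ ≠ irrOne G → charDegree ψ.1 = q → b = 1 := fun ψ m n e => by
    have e5 := not_sq_dvd hG n e
    have e6 := e ▸ e1 ψ m
    rcases b with _ | _ | b
    · exact absurd ((Nat.prime_dvd_prime_iff_eq hq Nat.prime_two).1 (hq.dvd_of_dvd_pow (by simpa using e6))) h2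
    · rfl
    · exact absurd (h ▸ (pow_dvd_pow q (by omega)).mul_left _) e5
  rcases consec hq h2 h3 e3 (e1 χ h6) (e2 ▸ e1 θ h7) with ⟨e5, e6⟩ | ⟨e5, e6⟩
  · exact ⟨e4 χ h6 h4 e5, e2, .inl ⟨e5, e5 ▸ e6⟩⟩
  · exact ⟨e4 θ h7 h5 (e2.trans e5), e2, .inr ⟨e2.trans e5, e6⟩⟩

end Cfsg.Agent.Hz3
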