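import Cfsg.Agent.Hz.E
import Cfsg.Agent.Small.E2
import Cfsg.Agent.S0904
import Cfsg.Agent.Block.Klein

/-! Simple groups with a Sylow 3-subgroup of order 9 and at least three classes of 3-elements (`syl`);
the degree pairs `(4, 5)` (`five`) and `(7, 8)` (`seven`). -/

set_option autoImplicit false
set_option linter.unusedSectionVars false
set_option linter.unusedVariables false

namespace Cfsg.Agent.Hz3

open Cfsg Cfsg.Agent.Char Cfsg.Agent.CharDeep Cfsg.Agent.Block Cfsg.Agent.Small Finset Subgroup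
open scoped ComplexConjugate

variable {G : Type*} [Group G] [Finite G] {p : ℕ} [hp : Fact p.Prime] {χ θ : IrrCharacter G} {x y : G}

theorem seven [IsSimpleGroup G] (hG : ¬ IsCyclic G) {a : ℕ} (h : Nat.card G = 3 ^ 2 * 2 ^ a * 7)
    (hθ : charDegree θ.1 = 8) : Nat.card G = 504 := by
  classical
  have := Fintype.ofFinite G
  have := Fact.mk Nat.prime_seven
  have o2 : 2 ^ a % 7 = 1 ∨ 2 ^ a % 7 = 2 ∨ 2 ^ a % 7 = 4 := by
    clear h
    induction a with
    | zero => simp
    | succ a ih => rw [pow_succ]; omega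
  obtain ⟨x, K, h0⟩ := exists_defOne_of_dvd (G := G) (p := 7) (h ▸ dvd_mul_left _ _) (by omega)
  have h7 : DefOne 7 x ⊥ := defOne_bot h0.ord (by
    have := S0904.result 3 2 7 2 a Nat.prime_three Nat.prime_two (by decide) (by decide) (by decide) h
      h0.sylow
    refine le_antisymm (fun c hc => ?_) (zpowers_le.2 (self_mem_centralizer x))
    rw [← h0.coe_sylow, ← this]
    intro w hw
    obtain ⟨i, rfl⟩ : w ∈ zpowers x := h0.coe_sylow ▸ hw
    exact Commute.zpow_left (mem_centralizer_singleton_iff.1 hc).symm i)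
  obtain ⟨X, φ, δ, ε, s⟩ := h7.exists_pshape
  have hE : Nat.card E[h7] = 2 := by
    have e1 := h7.card_eq_bot
    have e2 := index_mul_card_EE E[h7]
    have e3 : Nat.card E[h7] ≠ 1 := fun e =>
      h7.mem_commutator_iff.1 (perf hG ▸ mem_top x) (card_eq_one.1 e)
    have e4 : Nat.card (Sylow 7 G) % 7 = 1 := card_sylow_modEq_one 7 G
    have e5 := PShape.card_E_lt (h := h7)
    generalize Nat.card E[h7] = e at *
    interval_cases e <;> omega
  have hX : θ ∈ X := by
    refine ((s.mem_blk θ).1 (h7.mem_blk_of_not_dvd (by omega))).resolve_right ?_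
    rintro ⟨a, rfl⟩
    rcases s.ε_sign with e | e
    · have := s.φ_pos a e; omega
    · have := s.φ_neg a e; omega
  have hδ : δ θ = 1 := (s.δ_sign θ hX).resolve_right fun e => by have := s.X_neg hX e; omega
  have h1 : θ ≠ irrOne G := by rintro rfl; simp at hθ
  have h2 : X = {irrOne G, θ} := (eq_of_subset_of_card_le (by
    simp [insert_subset_iff, s.one_mem, hX]) (by rw [s.card_X', hE, card_pair h1.symm])).symm
  have h4 : X.erase (irrOne G) = {θ} := by rw [h2, erase_insert (by simpa using h1.symm)]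
  have h5 := fun a => s.degree_eq' a
  simp only [h4, sum_singleton, hδ, hθ] at h5
  have hε : ε = 1 := s.ε_sign.resolve_right fun e => by have := h5 1; rw [e] at this; omega
  have hφ : ∀ a, charDegree (φ a).1 = 9 := fun a => by have := h5 a; rw [hε] at this; omega
  obtain ⟨z, hz, hz'⟩ := exists_central_elt (G := G) (q := 2) (even_card hG)
  have z1 : z ≠ 1 := by rintro rfl; simp at hz
  have h6 : θ.1 z = 0 := apply_eq_zero_of_pow (q := 2) (k := 3) hG h1 hθ z1 hz'
  have hx : 7 ∣ orderOf x := h7.ord ▸ dvd_rfl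
  have h8 := card_mul_conj_pairs z z x
  rw [s.sum_irr_split, h2, sum_pair h1.symm, sum_eq_zero (s := Rest _ _ _) fun χ hχ => by
      rw [h7.rest_apply hχ hx]; simp,
    sum_congr rfl (g := fun χ => conj (χ.1 x) / 9) fun χ hχ => by
      obtain ⟨b, rfl⟩ := mem_Phi.1 hχ
      have := s.regular' (g := z) (by rw [hz]; decide) b
      rw [h4, sum_singleton, h6, hε] at this
      rw [(φ b).2.apply_one_eq_charDegree, hφ b, show (φ b).1 z = 1 by simpa using this]
      simp, ← sum_div, ← map_sum, s.sum_Phi_apply hx, hε] at h8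
  simp only [irrOne_apply, h6] at h8
  have h9 : Nat.card {w : G × G // w.1 * z * w.1⁻¹ * (w.2 * z * w.2⁻¹) = x} * 9 = Nat.card G * 8 := by
    apply Nat.cast_injective (R := ℂ)
    rw [Nat.cast_mul, h8]
    simp
    ring
  rw [h7.card_pairs (by decide) (by rw [← sq, ← hz, pow_orderOf_eq_one]) fun e => by
    rw [e] at h9; have : 0 < Nat.card G := Nat.card_pos; omega] at h9
  obtain ⟨m, hm⟩ : 2 ^ a ∣ Nat.card (centralizer ({z} : Set G)) :=
    ((Nat.prime_two.coprime_iff_not_dvd.2 hz').pow_left a).dvd_of_dvd_mul_left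
      (by rw [index_mul_card, h]; exact (dvd_mul_left _ _).mul_right _)
  have h10 : 2 ^ a * m ^ 2 = 8 := Nat.eq_of_mul_eq_mul_left (show 0 < 63 * 2 ^ a by positivity)
    (by rw [hm, h] at h9; linear_combination h9)
  have h11 : 8 ∣ 2 ^ a := (by decide : Nat.Coprime 8 63).dvd_of_dvd_mul_left
    (by have := θ.2.charDegree_dvd_card; rw [hθ, h] at this; omega)
  have h12 := Nat.le_of_dvd (by decide) (Dvd.intro _ h10)
  have h13 := Nat.le_of_dvd (by positivity) h11
  omega

theorem five [IsSimpleGroup G] (P : Sylow 3 G) (hP : Nat.card (P : Subgroup G) = 9) (h4 : χ ≠ irrOne G)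
    (hd : charDegree χ.1 = 4) (hd' : charDegree θ.1 = 5) {η : G → ℂ} (hη : ∀ g, η g = 0 ∨ η g = 3)
    (h : ∀ g, η g = 1 + χ.1 g - θ.1 g) [Fintype (P : Subgroup G)]
    (hs : ∑ x : (P : Subgroup G), η x = 18) : False := by
  classical
  have := Fintype.ofFinite G
  obtain ⟨M, _⟩ := exists_pmod 3
  have h1 : ∀ g, ∃ n : ℤ, χ.1 g = n := fun g => exists_int_of_fixed (χ.2.isCharacter.isIntegral g) fun σ => by
    have e1 : (galIrr σ χ).1 + θ.1 = χ.1 + (galIrr σ θ).1 := funext fun g => by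
      have e2 : σ (η g) = η g := by rcases hη g with e | e <;> simp [e, map_ofNat]
      rw [h g, map_sub, map_add, map_one] at e2
      simp only [Pi.add_apply, galIrr_apply, RingHom.coe_coe]
      linear_combination e2
    have e2 := congrArg (classInner · (galIrr σ χ).1) e1
    simp only [classInner_add_left, classInner_irr, if_true] at e2
    rw [if_neg (fun e : θ = _ => by rw [e, charDegree_galIrr] at hd'; omega),
      if_neg (fun e : galIrr _ θ = _ => by
        have := charDegree_galIrr σ θ; rw [e, charDegree_galIrr] at this; omega)] at e2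
    have e3 : χ = galIrr σ χ := by
      by_contra e
      simp [e] at e2
    exact (congrArg (fun ψ : IrrCharacter G => ψ.1 g) e3).symm
  choose f hf using h1
  have h2 : ∀ g : (P : Subgroup G), g ≠ 1 → f g = 1 ∨ 3 ≤ 1 - f g := fun g g1 => by
    have e1 := red_apply_pElt (M := M) χ.2.isCharacter (orderOf_eq_pow_of_mem P.isPGroup' g.2)
    rw [χ.2.apply_one_eq_charDegree, hd, hf, red_intCast, red_natCast, ← sub_eq_zero,
      ← Int.cast_natCast, ← Int.cast_sub, intCast_F_eq_zero_iff (p := 3)] at e1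
    have e2 := χ.2.isCharacter.norm_apply_le_charDegree g
    rw [hf, hd, Complex.norm_intCast] at e2
    have e3 : |f g| ≤ 4 := by exact_mod_cast e2
    have e4 : f g ≠ 4 := fun e => g1 (Subtype.ext (eq_one_of_apply h4 (by
      rw [hf, e, χ.2.apply_one_eq_charDegree, hd]; simp)))
    have := abs_le.1 e3
    omega
  obtain ⟨m, hm⟩ := (χ.2.isCharacter.restrict P).exists_nat_classInner isCharacter_one
  obtain ⟨n, hn⟩ := (θ.2.isCharacter.restrict P).exists_nat_classInner isCharacter_one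
  rw [classInner_one_right, hP, inv_mul_eq_iff_eq_mul₀ (by norm_num)] at hm hn
  have h3 : (Fintype.card (P : Subgroup G) : ℂ) = 9 := by rw [← Nat.card_eq_fintype_card, hP]; simp
  simp only [h, sum_sub_distrib, sum_add_distrib, hm, hn, sum_const, card_univ, nsmul_eq_mul, h3] at hs
  have h5 : m = n + 1 := by exact_mod_cast (by push_cast at hs; linear_combination hs / 9 : (m : ℂ) = n + 1)
  have h6 : ∑ g ∈ univ.erase (1 : (P : Subgroup G)), (1 - f g) = 12 - 9 * m := by
    have e1 : f 1 = 4 := by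
      have := hf 1
      rw [χ.2.apply_one_eq_charDegree, hd] at this
      exact_mod_cast this.symm
    have e2 : ∑ g : (P : Subgroup G), f g = 9 * m := by
      simp only [hf] at hm
      exact_mod_cast hm
    rw [sum_erase_eq_sub (mem_univ _), sum_sub_distrib, e2, OneMemClass.coe_one, e1, sum_const, card_univ,
      ← Nat.card_eq_fintype_card, hP]
    simp
    ring
  obtain ⟨g, g1, h7⟩ : ∃ g : (P : Subgroup G), g ≠ 1 ∧ 3 ≤ 1 - f g := by
    by_contra! e
    rw [sum_eq_zero fun g hg => by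
      have := (h2 g (ne_of_mem_erase hg)).resolve_right (e g (ne_of_mem_erase hg)).not_ge
      omega] at h6
    omega
  have h8 : f (g⁻¹ : (P : Subgroup G)) = f g := by
    have := χ.2.apply_inv (g : G)
    rw [hf, hf, map_intCast] at this
    exact_mod_cast this
  have h9 : g ≠ g⁻¹ := fun e => by
    have e1 := orderOf_dvd_of_pow_eq_one (show g ^ 2 = 1 by rw [sq]; exact mul_eq_one_iff_eq_inv.2 e)
    have e2 := hP ▸ orderOf_dvd_natCard g
    exact g1 (orderOf_eq_one_iff.1 (Nat.dvd_one.1 (Nat.dvd_gcd e1 e2)))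
  have := add_le_sum (f := fun g : (P : Subgroup G) => 1 - f g) (s := univ.erase 1)
    (fun g hg => by have := h2 g (ne_of_mem_erase hg); omega) (mem_erase.2 ⟨g1, mem_univ _⟩)
    (mem_erase.2 ⟨inv_ne_one.2 g1, mem_univ _⟩) h9
  omega

section
variable (P : Sylow p G) (ab : IsMulCommutative (P : Subgroup G))

/-- The conjugates of `x` in `P`. -/
def cl (x : G) : Set G := {y | y ∈ (P : Subgroup G) ∧ IsConj x y}

include ab
variable {P}

theorem fus (hx : x ∈ (P : Subgroup G)) (hy : y ∈ cl P x) :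
    ∃ n ∈ normalizer ((P : Subgroup G) : Set G), n * x * n⁻¹ = y := by
  obtain ⟨g, rfl⟩ := isConj_iff.1 hy.2
  obtain ⟨n, h1, h2⟩ := P.conj_eq_normalizer_conj_of_mem x g⁻¹ hx (by rw [inv_inv]; exact hy.1)
  exact ⟨n⁻¹, inv_mem h1, by simpa using h2.symm⟩

theorem nofix [IsSimpleGroup G] (hG : ¬ IsCyclic G) (hx : x ∈ (P : Subgroup G))
    (h : ∀ n ∈ normalizer ((P : Subgroup G) : Set G), n * x * n⁻¹ = x) : x = 1 := by
  have h1 := Transfer.abelian_hall_commutator_inf ab le_normalizer le_rfl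
    (Transfer.sylow_coprime_relIndex P le_normalizer)
  rw [← Transfer.sylow_inf_commutator_of_comm P ab, perf hG, inf_top_eq] at h1
  exact mem_bot.1 (h1 ▸ ⟨hx, fun n hn => mul_inv_eq_iff_eq_mul.1 (h n hn)⟩)

omit ab in
theorem conj_mem_cl (hx : y ∈ cl P x) {n : G} (hn : n ∈ normalizer ((P : Subgroup G) : Set G)) :
    n * y * n⁻¹ ∈ cl P x :=
  ⟨(mem_normalizer_iff.1 hn y).1 hx.1, hx.2.trans (isConj_iff.2 ⟨n, rfl⟩)⟩

theorem exists_cl [IsSimpleGroup G] (hG : ¬ IsCyclic G) (hx : x ∈ (P : Subgroup G)) (x1 : x ≠ 1) :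
    ∃ y ∈ cl P x, x ≠ y := by
  by_contra! h
  exact x1 (nofix ab hG hx fun n hn => (h _ (conj_mem_cl ⟨hx, IsConj.refl _⟩ hn)).symm)

theorem two_le_cl [IsSimpleGroup G] (hG : ¬ IsCyclic G) (hx : x ∈ (P : Subgroup G)) (x1 : x ≠ 1) :
    2 ≤ (cl P x).ncard := by
  obtain ⟨y, h1, h2⟩ := exists_cl ab hG hx x1
  exact (Set.one_lt_ncard).2 ⟨x, ⟨hx, IsConj.refl _⟩, y, h1, h2⟩

theorem pm_of_le [IsSimpleGroup G] (hG : ¬ IsCyclic G) (hx : x ∈ (P : Subgroup G))
    (h : (cl P x).ncard ≤ 2) {n : G} (hn : n ∈ normalizer ((P : Subgroup G) : Set G)) :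
    n * x * n⁻¹ = x ∨ n * x * n⁻¹ = x⁻¹ := by
  by_cases x1 : x = 1
  · simp [x1]
  obtain ⟨y, h1, h2⟩ := exists_cl ab hG hx x1
  have h0 : x ∈ cl P x := ⟨hx, IsConj.refl _⟩
  have h3 : {x, y} = cl P x := Set.eq_of_subset_of_ncard_le (Set.pair_subset h0 h1)
    (by rwa [Set.ncard_pair h2])
  have h4 : x * y = 1 := nofix ab hG (mul_mem hx h1.1) fun m hm => by
    have e1 := conj_mem_cl h0 hm
    have e2 := conj_mem_cl h1 hm
    have e3 : m * x * m⁻¹ ≠ m * y * m⁻¹ := by simpa using h2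
    rw [← h3] at e1 e2
    rw [← _root_.conj_mul]
    rcases e1 with e1 | e1 <;> rcases e2 with e2 | e2
    · exact absurd (e1.trans e2.symm) e3
    · rw [e1, e2]
    · rw [e1, e2]
      exact congrArg Subtype.val (ab.is_comm.comm ⟨y, h1.1⟩ ⟨x, hx⟩)
    · exact absurd (e1.trans e2.symm) e3
  have := conj_mem_cl h0 hn
  rwa [← h3, eq_inv_of_mul_eq_one_right h4] at this

end

theorem cover {P R : Subgroup G} (U : Finset G) (h : ∀ t ∈ P, t ∉ R → ∃ u ∈ U, IsConj u t) :
    {g | InT P R (pPart p g)}.ncard ≤ ∑ u ∈ U, {g | IsConj u (pPart p g)}.ncard :=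
  le_trans (Set.ncard_le_ncard fun g ⟨t, h1, h2, h3⟩ => by
    obtain ⟨u, h4, h5⟩ := h t h1 h2
    exact Set.mem_biUnion h4 (h5.trans h3)) (set_ncard_biUnion_le U _)

theorem syl [IsSimpleGroup G] (hG : ¬ IsCyclic G) (P : Sylow 3 G) (hP : Nat.card (P : Subgroup G) = 9)
    (h3 : 3 ≤ Nat.card {C : ConjClasses G // ∃ g ∈ C.carrier, g ≠ 1 ∧ orderOf g ∣ 9}) :
    ∃ R ≤ (P : Subgroup G), Nat.card R = 3 ∧ (∀ t ∈ (P : Subgroup G), t ∉ R → ∀ s ∈ R, ¬ IsConj t s) ∧
      3 * {g | InT P R (pPart 3 g)}.ncard < 2 * Nat.card G := by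
  classical
  have := Fintype.ofFinite G
  have ab : IsMulCommutative (P : Subgroup G) := IsPGroup.isMulCommutative_of_card_eq_prime_sq (p := 3) hP
  have cm : ∀ a ∈ (P : Subgroup G), ∀ b ∈ (P : Subgroup G), Commute a b := fun a ha b hb =>
    congrArg Subtype.val (ab.is_comm.comm ⟨a, ha⟩ ⟨b, hb⟩)
  have c9 : ((P : Subgroup G) : Set G).ncard = 9 := hP
  have od : ∀ x ∈ (P : Subgroup G), x ≠ 1 → orderOf x = 3 ∨ orderOf x = 9 := fun x hx x1 => by
    have h1 := hP ▸ Subgroup.orderOf_dvd_natCard _ hx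
    have h2 := mt orderOf_eq_one_iff.1 x1
    have h4 := Nat.le_of_dvd (by decide) h1
    generalize orderOf x = k at *
    interval_cases k <;> omega
  have sq : ∀ x ∈ (P : Subgroup G), x = x⁻¹ → x = 1 := fun x hx e => by_contra fun x1 => by
    have := orderOf_dvd_of_pow_eq_one (show x ^ 2 = 1 by rw [sq]; exact mul_eq_one_iff_eq_inv.2 e)
    rcases od x hx x1 with e | e <;> exact absurd (e ▸ this) (by decide)
  obtain ⟨x, hx, x1, h1⟩ : ∃ x ∈ (P : Subgroup G), x ≠ 1 ∧ (cl P x).ncard ≤ 2 := by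
    by_contra! h
    set s := (((P : Subgroup G) : Set G) \ {1}).toFinset
    have e1 := mul_card_image_le_card (f := ConjClasses.mk) s 3 fun b hb => by
      obtain ⟨x, hx, rfl⟩ := mem_image.1 hb
      obtain ⟨hx, x1⟩ := Set.mem_toFinset.1 hx
      refine (h x hx x1).trans_le ?_
      rw [← Set.ncard_coe_finset]
      refine Set.ncard_le_ncard fun y hy => mem_coe.2 (mem_filter.2 ⟨Set.mem_toFinset.2 ⟨hy.1, ?_⟩,
        ConjClasses.mk_eq_mk_iff_isConj.2 hy.2.symm⟩)
      rintro rfl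
      exact x1 (isConj_one_left.1 hy.2)
    have e2 : #s = 8 := by
      rw [← Set.ncard_eq_toFinset_card', Set.ncard_sdiff_singleton_of_mem (one_mem _), c9]
    have e3 := h3.trans (Nat.card_le_card_of_injective (β := s.image ConjClasses.mk) (fun C => ⟨C.1, by
      obtain ⟨g, h1, h2, h4⟩ := C.2
      obtain ⟨a, ha⟩ := Invol.exists_conj_mem_sylow (n := 2) (orderOf_dvd_iff_pow_eq_one.1 h4) P
      refine mem_image.2 ⟨_, Set.mem_toFinset.2 ⟨ha, by simpa using h2⟩, ?_⟩
      rw [← ConjClasses.mem_carrier_iff_mk_eq.1 h1]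
      exact ConjClasses.mk_eq_mk_iff_isConj.2 (isConj_iff.2 ⟨a, rfl⟩).symm⟩)
      fun C D e => Subtype.ext (congrArg (fun z => z.1) e))
    rw [Nat.card_eq_fintype_card, Fintype.card_coe] at e3
    omega
  obtain ⟨r, hr, r3, h2⟩ : ∃ r ∈ (P : Subgroup G), orderOf r = 3 ∧
      ∀ n ∈ normalizer ((P : Subgroup G) : Set G), n * r * n⁻¹ = r ∨ n * r * n⁻¹ = r⁻¹ := by
    rcases od x hx x1 with e | e
    · exact ⟨x, hx, e, fun n => pm_of_le ab hG hx h1⟩
    · refine ⟨x ^ 3, pow_mem hx _, by rw [orderOf_pow' _ (by decide), e]; rfl, fun n hn => ?_⟩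
      rw [← conj_pow]
      exact (pm_of_le ab hG hx h1 hn).imp (fun e => by rw [e]) fun e => by rw [e, inv_pow]
  have hR : zpowers r ≤ P := zpowers_le.2 hr
  have h4 : ∀ s ∈ zpowers r, ∀ n ∈ normalizer ((P : Subgroup G) : Set G),
      n * s * n⁻¹ = s ∨ n * s * n⁻¹ = s⁻¹ := fun s hs n hn => by
    obtain ⟨i, rfl⟩ := mem_zpowers_iff.1 hs
    rw [← conj_zpow]
    exact (h2 n hn).imp (fun e => by rw [e]) fun e => by rw [e, inv_zpow]
  have hst : ∀ t ∈ (P : Subgroup G), t ∉ zpowers r → ∀ s ∈ zpowers r, ¬ IsConj t s := fun t ht tr s hs c => by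
    obtain ⟨n, hn, rfl⟩ := fus ab (hR hs) ⟨ht, c.symm⟩
    rcases h4 s hs n hn with e | e
    exacts [tr (e.symm ▸ hs), tr (e.symm ▸ inv_mem hs)]
  refine ⟨zpowers r, hR, by rw [Nat.card_zpowers, r3], hst, ?_⟩
  have g0 : 0 < Nat.card G := Nat.card_pos
  set T := ((P : Subgroup G) : Set G) \ zpowers r with hT
  have c6 : T.ncard = 6 := by
    rw [Set.ncard_sdiff hR, c9, show (zpowers r : Set G).ncard = 3 from (Nat.card_zpowers r).trans r3]
  have t1 : ∀ t ∈ T, t ≠ 1 := fun t ht e => ht.2 (e ▸ one_mem _)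
  have sT : ∀ t ∈ T, cl P t ⊆ T := fun t ht y hy => ⟨hy.1, fun e => hst t ht.1 ht.2 y e hy.2⟩
  by_cases hc : ∀ t ∈ T, (cl P t).ncard ≤ 2
  · obtain ⟨t, ht⟩ := Set.nonempty_of_ncard_ne_zero (s := T) (by omega)
    obtain ⟨y, h5, h6⟩ := exists_cl ab hG ht.1 (t1 t ht)
    have h7 := cover (p := 3) (P := P) (R := zpowers r) (T.toFinset.erase y) fun u h1 h2 => by
      by_cases e : u = y
      · exact ⟨t, mem_erase.2 ⟨h6, Set.mem_toFinset.2 ht⟩, e ▸ h5.2⟩
      · exact ⟨u, mem_erase.2 ⟨e, Set.mem_toFinset.2 ⟨h1, h2⟩⟩, IsConj.refl _⟩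
    have h8 := sum_le_card_nsmul (T.toFinset.erase y)
      (fun u => {g | IsConj u (pPart 3 g)}.ncard * 9) (Nat.card G) fun u hu => by
      have hu := Set.mem_toFinset.1 (mem_of_mem_erase hu)
      have l : (P : Subgroup G) ≤ centralizer {u} := fun w hw =>
        mem_centralizer_singleton_iff.2 (cm w hw u hu.1)
      refine hP ▸ sec_compl P l (complement_of_inf_le P l fun n h1 hn w hw => ?_)
      have pm : ∀ v ∈ (P : Subgroup G), n * v * n⁻¹ = v ∨ n * v * n⁻¹ = v⁻¹ := fun v hv => by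
        by_cases e : v ∈ zpowers r
        exacts [h4 v e n hn, pm_of_le ab hG hv (hc v ⟨hv, e⟩) hn]
      have e1 : n * u * n⁻¹ = u := mul_inv_eq_iff_eq_mul.2 (mem_centralizer_singleton_iff.1 h1)
      refine (mul_inv_eq_iff_eq_mul.1 ((pm w hw).elim id fun e => ?_)).symm
      have e2 := pm _ (mul_mem hu.1 hw)
      rw [← _root_.conj_mul, e1, e, mul_right_inj, (cm u hu.1 w hw).eq, mul_inv_rev, mul_left_inj] at e2
      exact e.trans (e2.resolve_right fun e => t1 u hu (sq u hu.1 e))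
    rw [card_erase_of_mem (Set.mem_toFinset.2 (sT t ht h5)), ← Set.ncard_eq_toFinset_card', c6,
      ← sum_mul, smul_eq_mul] at h8
    omega
  push Not at hc
  obtain ⟨t, ht, h5⟩ := hc
  obtain ⟨u, hu, h6⟩ : ∃ u ∈ T, ∀ v ∈ T, IsConj t v ∨ IsConj u v := by
    by_contra! h
    obtain ⟨u, hu, h6, -⟩ := h t ht
    obtain ⟨v, hv, h7, h8⟩ := h u hu
    have d : ∀ a b, ¬ IsConj a b → Disjoint (cl P a) (cl P b) := fun a b c =>
      Set.disjoint_left.2 fun y h1 h2 => c (h1.2.trans h2.2.symm)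
    have := Set.ncard_le_ncard (Set.union_subset (Set.union_subset (sT t ht) (sT u hu)) (sT v hv))
    rw [Set.ncard_union_eq (Set.disjoint_union_left.2 ⟨d _ _ h7, d _ _ h8⟩), Set.ncard_union_eq (d _ _ h6)]
      at this
    have := two_le_cl ab hG hu.1 (t1 u hu)
    have := two_le_cl ab hG hv.1 (t1 v hv)
    omega
  have h7 : ∀ v ∈ T, {g | IsConj v (pPart 3 g)}.ncard * 3 < Nat.card G := fun v hv => by
    rcases od v hv.1 (t1 v hv) with e | e
    · refine (e ▸ sec_lt (p := 3) (y := r) ⟨1, r3⟩ (cm v hv.1 r hr) fun c => hv.2 ?_ :)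
      rw [eq_of_le_of_card_ge (zpowers_le.2 c) (by rw [Nat.card_zpowers, Nat.card_zpowers, e, r3])]
      exact mem_zpowers v
    · have := sec_le (p := 3) v
      rw [e] at this
      omega
  have h8 := (cover (p := 3) (P := P) (R := zpowers r) {t, u} fun v h1 h2 => by
    simpa using h6 v ⟨h1, h2⟩).trans (sum_le_card_nsmul _ _ ((Nat.card G - 1) / 3) fun v hv => by
      have := h7 v (by rcases mem_insert.1 hv with rfl | e; exacts [ht, mem_singleton.1 e ▸ hu])
      omega)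
  have h9 := Nat.mul_le_mul_right ((Nat.card G - 1) / 3) (card_le_two (a := t) (b := u))
  rw [smul_eq_mul] at h8
  omega

end Cfsg.Agent.Hz3
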