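import Cfsg.Agent.S2754
import Cfsg.Agent.S2755
import Cfsg.Agent.LieM.Gold5
import Cfsg.Agent.Loc.TwoF
import Cfsg.Agent.AutCl.PSLOut
import Cfsg.Agent.AutCl.FieldAut
import Cfsg.Agent.GW.Cov
import Cfsg.Agent.Mult.SL2
import Cfsg.Agent.Sig.Gs
import Mathlib.GroupTheory.NoncommPiCoprod

/-! Groups without real elements of order three (`NR`): `nr_iff` (the same as `S₃`-free), 2-elements centralize the
3-subgroups they normalize, components, and the structure theorem `NR.struct` (helper13). -/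

set_option autoImplicit false
set_option linter.unusedSectionVars false

namespace Cfsg.Agent.Hz3
open Subgroup Cfsg Cfsg.Agent.Classical Cfsg.Agent.Schur Cfsg.Agent.Sig
open scoped MatrixGroups commutatorElement

universe u

/-- No real element of order three. -/
def NR (G : Type*) [Group G] : Prop := ∀ t y : G, y ^ 3 = 1 → t * y * t⁻¹ = y⁻¹ → y = 1

theorem one_of_pow {X : Type*} [Group X] {z : X} {a b : ℕ} (h : a.Coprime b) (ha : z ^ a = 1) (hb : z ^ b = 1) : z = 1 :=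
  orderOf_eq_one_iff.1 (Nat.eq_one_of_dvd_coprimes h (orderOf_dvd_of_pow_eq_one ha) (orderOf_dvd_of_pow_eq_one hb))

section PSL
variable {F : Type*} [Field F] [Fintype F] {n : ℕ}

theorem u_ne : (QuotientGroup.mk (uSL (1 : F)) : PSL(2, F)) ≠ 1 := fun h => by
  have := mem_center_iff.1 ((QuotientGroup.eq_one_iff _).1 h) (lSL 1)
  have := congrFun (congrFun (congrArg Subtype.val this) 0) 0
  simp [Matrix.mul_apply] at this

theorem u_cube (h : (3 : F) = 0) : (QuotientGroup.mk (uSL (1 : F)) : PSL(2, F)) ^ 3 = 1 := by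
  rw [← QuotientGroup.mk_pow, uSL_pow]
  simp [h]

theorem psl_aut (hF : Fintype.card F = 3 ^ (2 * n + 1)) (α : MulAut PSL(2, F)) {k : ℕ} (h : α ^ 2 ^ k = 1) :
    (∃ l, ∀ x, α x = l * x * l⁻¹) ∨ ∃ l y : PSL(2, F), y ≠ 1 ∧ y ^ 3 = 1 ∧ l * α y * l⁻¹ = y⁻¹ := by
  haveI := Fact.mk Nat.prime_three
  obtain ⟨h3, h4⟩ := psl_card_three (F := F) (n := n) (by rw [Nat.card_eq_fintype_card, hF])
  haveI : CharP F 3 := (CharP.charP_iff_prime_eq_zero Nat.prime_three).2 (by exact_mod_cast h3)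
  obtain ⟨π, -, hk, -⟩ := AutCl.exists_autHom_two (F := F) (p := 3)
  have h1 : π α = 1 := by
    refine orderOf_eq_one_iff.1 (Nat.eq_one_of_dvd_coprimes (a := 2 ^ k) (b := 2 * n + 1) ?_
      (orderOf_dvd_of_pow_eq_one (by rw [← map_pow, h, map_one])) ?_)
    · exact Nat.Coprime.pow_left _ (by simp)
    · rw [← AutCl.card_ringAut hF]; exact orderOf_dvd_natCard _
  obtain ⟨g, rfl⟩ : α ∈ (AutCl.diagAut : GL (Fin 2) F →* MulAut _).range := hk ▸ h1
  have key : ∀ g : GL (Fin 2) F, IsSquare (g.1.det) → ∃ l : PSL(2, F), ∀ x, AutCl.diagAut g x = l * x * l⁻¹ := by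
    rintro g ⟨c, hc⟩
    have c0 : c ≠ 0 := by
      rintro rfl
      exact (Matrix.GeneralLinearGroup.det g).ne_zero (by simpa using hc)
    obtain ⟨l, hl⟩ := (AutCl.diagAut_mem_inn_iff (p := 3) (by simp) g).2 ⟨Units.mk0 c c0, Units.ext (by
      simp [hc, sq])⟩
    exact ⟨l, fun x => by rw [← hl]; rfl⟩
  by_cases hs : IsSquare g.1.det
  · exact Or.inl (key g hs)
  let d : GL (Fin 2) F := ⟨!![-1, 0; 0, 1], !![-1, 0; 0, 1], by ext i j; fin_cases i <;> fin_cases j <;> simp [Matrix.mul_apply],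
    by ext i j; fin_cases i <;> fin_cases j <;> simp [Matrix.mul_apply]⟩
  have hd : d * d = 1 := Units.ext d.3
  obtain ⟨l, hl⟩ := key (g * d) (by
    have : (g * d).1.det = g.1.det * -1 := by simp [d, Matrix.det_fin_two]
    rw [this]
    exact Geom.isSquare_mul_of_not_isSquare hs h4)
  refine Or.inr ⟨l⁻¹, _, u_ne, u_cube h3, ?_⟩
  have e : AutCl.diagAut d (QuotientGroup.mk (uSL (1 : F)) : PSL(2, F)) = (QuotientGroup.mk (uSL (1 : F)) : PSL(2, F))⁻¹ := by
    rw [AutCl.diagAut_mk, ← QuotientGroup.mk_inv, uSL_inv]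
    congr 1
    ext i j
    rw [AutCl.slConj_coe]
    change (d.1 * (uSL (1 : F)).1 * d.2) i j = _
    fin_cases i <;> fin_cases j <;> simp [d, Matrix.mul_apply]
  have e2 : g = g * d * d := by rw [mul_assoc, hd, mul_one]
  rw [e2, map_mul, MulAut.mul_apply, e, hl]
  group

theorem ker_sq {X : Type*} [Group X] [Finite X] [Group.IsPerfect X] (h3 : 3 < Nat.card F) (h4 : Fintype.card F ≠ 4)
    (h9 : Fintype.card F ≠ 9) {ξ : X →* PSL(2, F)} (hξ : IsCentralExt ξ) {z : X} (hz : ξ z = 1) : z * z = 1 := by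
  have E := isCentralExt_pullSnd hξ (pslMk F)
  obtain ⟨s, hs⟩ := exists_section_of_perfect (GW.perfect_SL2 h3) E (mul_eq_bot_of_trivial (Mult.hasCyclic_SL2 h4 h9) E)
  have c : ξ.comp ((pullFst ξ (pslMk F)).comp s) = pslMk F := by
    rw [← MonoidHom.comp_assoc, pull_comm, MonoidHom.comp_assoc, hs, MonoidHom.comp_id]
  obtain ⟨w, rfl⟩ := surjective_of_over_stem pslMk_surjective ⟨hξ.surj, hξ.central, by simp⟩ c z
  rw [← map_mul, sq_center w ((QuotientGroup.eq_one_iff _).1 ((DFunLike.congr_fun c w).symm.trans hz)), map_one]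

end PSL

variable {G : Type u} [Group G] [Finite G] {L Q : Subgroup G} {t y : G}

theorem nr_iff : NR G ↔ ¬ PLocal.Involves (⊤ : Subgroup G) (Equiv.Perm (Fin 3)) := by
  refine ⟨fun h hi => ?_, fun h t y y3 e => by_contra fun y1 => h ?_⟩
  · obtain ⟨t, y, h1, h2, h3⟩ := real3_of_invo hi
    exact h2 (h t y h1 h3)
  obtain ⟨K, hK⟩ : ∃ K, K = centralizer ({t * t} : Set G) := ⟨_, rfl⟩
  have ht : t ∈ K := hK ▸ mem_centralizer_singleton_iff.2 (by group)
  have e2 : t * t * y * (t * t)⁻¹ = y := by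
    calc _ = t * (t * y * t⁻¹) * t⁻¹ := by group
      _ = t * y⁻¹ * t⁻¹ := by rw [e]
      _ = (t * y * t⁻¹)⁻¹ := by group
      _ = y := by rw [e, inv_inv]
  have hy : y ∈ K := hK ▸ mem_centralizer_singleton_iff.2 (by
    calc y * (t * t) = t * t * y * (t * t)⁻¹ * (t * t) := by rw [e2]
      _ = _ := by group)
  obtain ⟨N, hN⟩ : ∃ N : Subgroup K, N = zpowers ⟨t * t, mul_mem ht ht⟩ := ⟨_, rfl⟩
  have hc : N ≤ center K := by
    rw [hN, zpowers_le]
    exact mem_center_iff.2 fun g => Subtype.ext (mem_centralizer_singleton_iff.1 (hK ▸ g.2))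
  haveI : N.Normal := ⟨fun a ha g => by rwa [mem_center_iff.1 (hc ha) g, mul_inv_cancel_right]⟩
  refine (PLocal.involves_sub K).trans' ((PLocal.involves_quot N).trans' (Loc.involves_S3
    (a := QuotientGroup.mk ⟨t, ht⟩) (r := QuotientGroup.mk ⟨y, hy⟩) (mem_top _) (mem_top _) ?_ ?_ ?_ ?_))
  · rw [← QuotientGroup.mk_pow, QuotientGroup.eq_one_iff, hN, sq]
    exact mem_zpowers _
  · rw [← QuotientGroup.mk_pow, show (⟨y, hy⟩ : K) ^ 3 = 1 from Subtype.ext y3]; rfl
  · intro h1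
    have h2 : t * y = y * t := congrArg Subtype.val (mem_center_iff.1 (hc ((QuotientGroup.eq_one_iff _).1 h1)) ⟨t, ht⟩)
    rw [h2, mul_inv_cancel_right] at e
    exact y1 (one_of_pow (a := 2) (by norm_num) ((sq y).trans (mul_eq_one_iff_eq_inv.2 e)) y3)
  · rw [← QuotientGroup.mk_inv, ← QuotientGroup.mk_inv, ← QuotientGroup.mk_mul, ← QuotientGroup.mk_mul]
    exact congrArg _ (Subtype.ext e)

theorem NR.sec (h : NR G) {X : Type*} [Group X] [Finite X] (hX : PLocal.Involves (⊤ : Subgroup G) X) : NR X :=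
  nr_iff.2 fun h' => nr_iff.1 h (hX.trans' h')

theorem NR.three (h : NR G) {m : ℕ} (h1 : y ^ 3 ^ m = 1) (e : t * y * t⁻¹ = y⁻¹) : y = 1 := by
  induction m with
  | zero => simpa using h1
  | succ m ih => exact ih (h t _ (by rw [← pow_mul, ← pow_succ, h1]) (by rw [← conj_pow, e, inv_pow]))

theorem NR.cent (h : NR G) [Q.Normal] (hQ : IsPGroup 3 Q) {k : ℕ} (ht : t ^ 2 ^ k = 1) (hy : y ∈ Q) :
    t * y * t⁻¹ = y := by
  induction k generalizing t with
  | zero => simp [show t = 1 by simpa using ht]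
  | succ k ih =>
    have e := ih (t := t * t) (by rw [← sq, ← pow_mul, ← pow_succ', ht])
    obtain ⟨m, hm⟩ := hQ ⟨y⁻¹ * (t * y * t⁻¹), mul_mem (inv_mem hy) (Normal.conj_mem inferInstance y hy t)⟩
    refine (inv_mul_eq_one.1 (h.three (t := t) (congrArg Subtype.val hm) ?_)).symm
    calc _ = t * y⁻¹ * t⁻¹ * (t * t * y * (t * t)⁻¹) := by group
      _ = _ := by rw [e]; group

theorem center_three (hO : pPrimeCore 3 G = ⊥) (hL : CompIn L ⊤) {z : L} (hz : z ∈ center L) : ∃ m, z ^ 3 ^ m = 1 := by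
  haveI := Fact.mk Nat.prime_three
  have : (z : G) ∈ pCore 3 G := by
    rw [← Solv.fitting_eq_pCore hO, ← fitIn_top]
    exact center_le_fitIn hL.subnIn ⟨z.2, mem_centralizer_iff.2 fun a ha =>
      congrArg Subtype.val (mem_center_iff.1 hz ⟨a, ha⟩)⟩
  obtain ⟨m, hm⟩ := Solv.isPGroup_pCore 3 G ⟨z, this⟩
  have := congrArg Subtype.val hm
  exact ⟨m, Subtype.ext this⟩

theorem NR.comp (h : NR G) (hO : pPrimeCore 3 G = ⊥) (hL : CompIn L ⊤) :
    center L = ⊥ ∧ ∃ (F : Type) (_ : Field F) (_ : Fintype F) (n : ℕ), 1 ≤ n ∧ Fintype.card F = 3 ^ (2 * n + 1) ∧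
      Nonempty (L ≃* PSL(2, F)) := by
  haveI := hL.qs.1
  haveI := hL.qs.2
  have h3 : ¬ Cfsg.Involves (Equiv.Perm (Fin 3)) (L ⧸ center L) := fun h3 => nr_iff.1 h ((PLocal.involves_sub L).trans'
    ((PLocal.involves_quot _).trans' (PLocal.involves_iff_top.1 h3)))
  rcases LieM.sz_or_l2 (fun hna => S2754.result hna) (fun h => S2755.result h) (qs_quotient_center_not_comm hL.qs) h3
    with hs | ⟨F, _, _, n, hn, hF, ⟨e⟩⟩
  · have h1 := (Nat.prime_three.coprime_iff_not_dvd).2 (sz_three hs)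
    have hz : center L = ⊥ := (eq_bot_iff_forall _).2 fun z hz => by
      obtain ⟨m, hm⟩ := center_three hO hL hz
      have : MonoidHom.transferCenterPow L z = 1 := by
        open scoped IsMulCommutative in
        exact MonoidHom.mem_ker.1 (Abelianization.commutator_subset_ker (A := center L) (MonoidHom.transferCenterPow L)
          Group.IsPerfect.mem_commutator)
      exact one_of_pow (h1.pow_left m) hm (congrArg Subtype.val this)
    refine absurd (le_bot_iff.1 (hO ▸ Solv.le_pPrimeCore_of_isSubnormal (compIn_top_iff.1 hL).1 ?_)) hL.ne_bot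
    rw [← Nat.card_congr ((QuotientGroup.quotientMulEquivOfEq hz).trans QuotientGroup.quotientBot).toEquiv]
    exact h1.symm
  · have h27 : 27 ≤ Fintype.card F := by
      rw [hF]; exact Nat.pow_le_pow_right (n := 3) (i := 3) (by norm_num) (by omega)
    have hz : center L = ⊥ := (eq_bot_iff_forall _).2 fun z hz => by
      obtain ⟨m, hm⟩ := center_three hO hL hz
      refine one_of_pow (a := 2) (Nat.Coprime.pow_right m (by norm_num)) ((sq z).trans (ker_sq (F := F)
        (by rw [Nat.card_eq_fintype_card]; omega) (by omega) (by omega)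
        (ξ := e.toMonoidHom.comp (QuotientGroup.mk' _)) ⟨e.surjective.comp (QuotientGroup.mk'_surjective _),
          fun x hx => (QuotientGroup.eq_one_iff _).1 (e.map_eq_one_iff.1 hx)⟩
        (e.map_eq_one_iff.2 ((QuotientGroup.eq_one_iff _).2 hz)))) hm
    exact ⟨hz, F, _, _, n, hn, hF,
      ⟨((QuotientGroup.quotientMulEquivOfEq hz).trans QuotientGroup.quotientBot).symm.trans e⟩⟩

theorem NR.inner (h : NR G) (hL : CompIn L ⊤) (hZ : center L = ⊥) {F : Type*} [Field F] [Fintype F] {n : ℕ}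
    (hF : Fintype.card F = 3 ^ (2 * n + 1)) (e : L ≃* PSL(2, F)) {k : ℕ} (ht : t ^ 2 ^ k = 1) :
    ∃ l ∈ L, ∀ x ∈ L, t * x * t⁻¹ = l * x * l⁻¹ := by
  induction k generalizing t with
  | zero => exact ⟨1, one_mem _, fun x _ => by simp [show t = 1 by simpa using ht]⟩
  | succ k ih =>
    by_cases hn : t ∈ normalizer (L : Set G)
    · have hα : ∀ x, (e.symm (MulAut.congr e (L.normalizerMonoidHom ⟨t, hn⟩) x) : G) = t * e.symm x * t⁻¹ := fun x => by
        simp
      rcases psl_aut hF (MulAut.congr e (L.normalizerMonoidHom ⟨t, hn⟩)) (k := k + 1) (by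
        rw [← map_pow, ← map_pow, show (⟨t, hn⟩ : normalizer (L : Set G)) ^ 2 ^ (k + 1) = 1 from Subtype.ext ht,
          map_one, map_one]) with ⟨l, hl⟩ | ⟨l, y, y1, y3, hy⟩
      · refine ⟨e.symm l, (e.symm l).2, fun x hx => ?_⟩
        have := hα (e ⟨x, hx⟩)
        rw [hl] at this
        simpa using this.symm
      · refine absurd (e.symm.map_eq_one_iff.1 (Subtype.ext (h ((e.symm l : G) * t) (e.symm y) ?_ ?_))) y1
        · rw [← Subgroup.coe_pow, ← map_pow, y3, map_one]; rfl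
        · have := congrArg (fun x => (e.symm x : G)) hy
          simp only [map_mul, map_inv, Subgroup.coe_mul, Subgroup.coe_inv, hα] at this
          rw [← this]; group
    · obtain ⟨l, hl, e2⟩ := ih (t := t * t) (by rw [← sq, ← pow_mul, ← pow_succ', ht])
      have hc : ⁅L.map (MulAut.conj t).toMonoidHom, L⁆ = ⊥ :=
        by_contra fun hc => hn (hL.mem_normalizer_of_commutator_ne_bot (by simp) hc)
      have c : ∀ a ∈ L, ∀ b ∈ L, Commute (t * a * t⁻¹) b := fun a ha b hb => commutatorElement_eq_one_iff_commute.1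
        ((eq_bot_iff_forall _).1 hc _ (commutator_mem_commutator (mem_map_of_mem _ ha) hb))
      obtain ⟨h3, -⟩ := psl_card_three (F := F) (n := n) (by rw [Nat.card_eq_fintype_card, hF])
      obtain ⟨y, y1, y3⟩ : ∃ y : L, y ≠ 1 ∧ y ^ 3 = 1 := ⟨e.symm _, fun h => u_ne (e.symm.map_eq_one_iff.1 h), by
        rw [← map_pow, u_cube h3, map_one]⟩
      have m1 : l⁻¹ * y * l ∈ L := mul_mem (mul_mem (inv_mem hl) y.2) hl
      have y3' : (y : G) ^ 3 = 1 := congrArg Subtype.val y3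
      obtain ⟨w, hw⟩ : ∃ w, w = t * (l⁻¹ * y * l) * t⁻¹ := ⟨_, rfl⟩
      have cw : ∀ b ∈ L, Commute w b := fun b hb => hw ▸ c _ m1 b hb
      have w3 : w ^ 3 = 1 := by
        rw [hw, conj_pow, show l⁻¹ * y * l = l⁻¹ * y * l⁻¹⁻¹ by rw [inv_inv], conj_pow, y3']; group
      have e3 : t * w * t⁻¹ = y := by
        calc _ = t * t * (l⁻¹ * y * l) * (t * t)⁻¹ := by rw [hw]; group
          _ = _ := by rw [e2 _ m1]; group
      have := h (t * l⁻¹) (y * w⁻¹) (by rw [(cw _ y.2).symm.inv_right.mul_pow, y3', inv_pow, w3]; simp) (by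
        calc _ = t * (l⁻¹ * y * l) * t⁻¹ * (t * (l⁻¹ * w * l) * t⁻¹)⁻¹ := by group
          _ = _ := by rw [← hw, mul_assoc l⁻¹, (cw l hl).eq, inv_mul_cancel_left, e3]; group)
      refine absurd ((eq_bot_iff_forall _).1 hZ y (mem_center_iff.2 fun b => Subtype.ext ?_)) y1
      rw [Subgroup.coe_mul, Subgroup.coe_mul, mul_inv_eq_one.1 this]
      exact (cw b b.2).eq.symm

theorem NR.struct (h : NR G) (hO : pPrimeCore 3 G = ⊥) (hgen : ∀ K : Subgroup G, (∀ t k, t ^ 2 ^ k = 1 → t ∈ K) → K = ⊤) :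
    ∃ (k : ℕ) (f : Fin k → ℕ), (∀ i, 1 ≤ f i) ∧ Nonempty (G ≃* ((i : Fin k) → PSL(2, GaloisField 3 (2 * f i + 1)))) := by
  haveI := Fact.mk Nat.prime_three
  obtain ⟨k, ⟨σ⟩⟩ := Finite.exists_equiv_fin {L : Subgroup G // CompIn L ⊤}
  obtain ⟨L, hL, inj, sur⟩ : ∃ L : Fin k → Subgroup G, (∀ i, CompIn (L i) ⊤) ∧ Function.Injective L ∧
      ∀ M, CompIn M ⊤ → ∃ i, L i = M := ⟨fun i => σ.symm i, fun i => (σ.symm i).2,
    Subtype.val_injective.comp σ.symm.injective, fun M hM => ⟨σ ⟨M, hM⟩, by simp⟩⟩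
  have hZ := fun i => (h.comp hO (hL i)).1
  choose F _ _ n hn hF e using fun i => (h.comp hO (hL i)).2
  have hc : Pairwise fun i j => ∀ x y : G, x ∈ L i → y ∈ L j → Commute x y := fun i j hij x y hx hy =>
    commutatorElement_eq_one_iff_commute.1 ((eq_bot_iff_forall _).1
      ((hL i).commutator_eq_bot_of_ne (hL j) (inj.ne hij)) _ (commutator_mem_commutator hx hy))
  obtain ⟨ψ, hψ⟩ : ∃ ψ : ((i : Fin k) → L i) →* G, ∀ i x, ψ (Pi.mulSingle i x) = x :=
    ⟨noncommPiCoprod hc, fun i x => noncommPiCoprod_mulSingle i x⟩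
  have act : ∀ f i, ∀ x ∈ L i, ψ f * x * (ψ f)⁻¹ = f i * x * (f i : G)⁻¹ := fun f i x hx => by
    have e2 : f * Pi.mulSingle i ⟨x, hx⟩ * f⁻¹ = Pi.mulSingle i (f i * ⟨x, hx⟩ * (f i)⁻¹) := by
      ext1 j
      by_cases hj : j = i
      · subst hj; simp
      · simp [Pi.mulSingle_eq_of_ne hj]
    have := congrArg ψ e2
    rwa [map_mul, map_mul, map_inv, hψ, hψ] at this
  have hi : Function.Injective ψ := (injective_iff_map_eq_one _).2 fun f hf => funext fun i =>
    (eq_bot_iff_forall _).1 (hZ i) _ (mem_center_iff.2 fun x => Subtype.ext (by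
      have := act f i x x.2
      rw [hf, one_mul, inv_one, mul_one, eq_mul_inv_iff_mul_eq] at this
      exact this))
  have hs : ψ.range = ⊤ := hgen _ fun t m ht => by
    choose l hl e2 using fun i => h.inner (hL i) (hZ i) (hF i) (e i).some ht
    obtain ⟨c, hc⟩ : ∃ c, c = (ψ fun i => ⟨l i, hl i⟩)⁻¹ * t := ⟨_, rfl⟩
    have cen : ∀ y ∈ pCore 3 G, ∀ g, g * y = y * g := fun y hy g =>
      mem_centralizer_singleton_iff.1 ((hgen (centralizer {y}) fun t k ht => mem_centralizer_singleton_iff.2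
        (mul_inv_eq_iff_eq_mul.1 (h.cent (Solv.isPGroup_pCore 3 G) ht hy))).ge (mem_top g))
    have h1 : zpowers c ≤ pcIn 3 ⊤ := le_pcIn_of_commutator_eq_bot (by rw [ppIn_top, hO]) le_top (by
      rw [commutator_comm, commutator_eq_bot_iff_le_centralizer, layerIn_le_iff]
      intro M hM x hx
      obtain ⟨i, rfl⟩ := sur M hM
      refine mem_centralizer_iff.2 fun z hz => ?_
      obtain ⟨j, rfl⟩ := hz
      refine (Commute.zpow_left (show c * x = x * c from ?_) j).eq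
      rw [← mul_inv_eq_iff_eq_mul, hc]
      calc _ = (ψ fun i => ⟨l i, hl i⟩)⁻¹ * (t * x * t⁻¹) * (ψ fun i => ⟨l i, hl i⟩) := by group
        _ = x := by rw [e2 i x hx, ← act (fun i => ⟨l i, hl i⟩) i x hx]; group) (by
      rw [commutator_eq_bot_iff_le_centralizer, pcIn_top]
      exact fun z _ => mem_centralizer_iff.2 fun y hy => (cen y hy z).symm)
    have h2 : c ∈ pCore 3 G := pcIn_top (G := G) 3 ▸ h1 (mem_zpowers c)
    obtain ⟨a, ha⟩ := Solv.isPGroup_pCore 3 G ⟨c, h2⟩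
    have h3 : t ^ 3 ^ a ∈ ψ.range := by
      rw [show t = (ψ fun i => ⟨l i, hl i⟩) * c by rw [hc]; group, (show Commute _ c from cen c h2 _).mul_pow,
        show c ^ 3 ^ a = 1 from congrArg Subtype.val ha, mul_one]
      exact pow_mem (MonoidHom.mem_range.2 ⟨_, rfl⟩) _
    refine zpowers_le.2 h3 (mem_zpowers_pow_iff.2 (Nat.Coprime.coprime_dvd_right (orderOf_dvd_of_pow_eq_one ht) ?_))
    exact Nat.Coprime.pow _ _ (by norm_num)
  refine ⟨k, n, hn, ⟨(MulEquiv.ofBijective ψ ⟨hi, MonoidHom.range_eq_top.1 hs⟩).symm.trans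
    (MulEquiv.piCongrRight fun i => (e i).some.trans ?_)⟩⟩
  have := Fintype.ofFinite (GaloisField 3 (2 * n i + 1))
  exact pslCongr (FiniteField.ringEquivOfCardEq (by
    rw [hF, ← Nat.card_eq_fintype_card, GaloisField.card 3 _ (by omega)]))

end Cfsg.Agent.Hz3
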